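import Cfsg.Agent.GWDihedral.Shell.Target
import Cfsg.Agent.GWFour.Consumers.Quaternion
import Cfsg.Agent.BenderSE.Induction
import Cfsg.Agent.S0201
import Cfsg.Agent.S0218

/-!
Groups with quaternion Sylow 2-subgroups modulo their centre.
-/

set_option autoImplicit false
set_option linter.unusedSectionVars false
set_option linter.style.haveILetI false

namespace Cfsg.Lib.GWD

open Subgroup Cfsg.Lib.GenDihedral

universe u

variable {G : Type u} [Group G] [Finite G]

/-- The dihedral quotient of a quaternion group. -/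
def quatToDihedral (m : ℕ) [NeZero m] : QuaternionGroup m →* DihedralGroup m where
  toFun
    | .a i => .r (ZMod.castHom (dvd_mul_left m 2) (ZMod m) i)
    | .xa i => .sr (ZMod.castHom (dvd_mul_left m 2) (ZMod m) i)
  map_one' := by
    show DihedralGroup.r (ZMod.castHom (dvd_mul_left m 2) (ZMod m) 0) = 1
    rw [map_zero, DihedralGroup.r_zero]
  map_mul' := by
    rintro (i | i) (j | j) <;> simp [map_add, map_sub]

theorem quatToDihedral_surjective (m : ℕ) [NeZero m] : Function.Surjective (quatToDihedral m) := by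
  have hs : Function.Surjective (ZMod.castHom (dvd_mul_left m 2) (ZMod m)) := ZMod.castHom_surjective _
  rintro (i | i) <;> obtain ⟨j, rfl⟩ := hs i
  exacts [⟨.a j, rfl⟩, ⟨.xa j, rfl⟩]

/-- A group of order twice an odd number, without non-trivial odd normal subgroup, has order two. -/
theorem card_two_of (hO : NoOdd G) (h2 : 2 ∣ Nat.card G) (h4 : ¬ 4 ∣ Nat.card G) : Nat.card G = 2 := by
  haveI : Fact (Nat.Prime 2) := ⟨Nat.prime_two⟩
  obtain ⟨P, N, hN, hc⟩ : Cfsg.HasNormalPComplement 2 G := by
    refine Cfsg.Lib.Transfer.hasNormalPComplement_of_frobenius fun V hV g hg hcop => ?_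
    refine Cfsg.Lib.GWFour.centralizes_of_aut_two (Cfsg.Lib.GWFour.aut_two_of_cyclic V hV ?_) hg
      (Nat.coprime_two_right.1 hcop)
    obtain ⟨k, hk⟩ := hV.exists_card_eq
    rcases k with _ | _ | k
    · haveI : Subsingleton V := (Nat.card_eq_one_iff_unique.1 hk).1
      infer_instance
    · exact isCyclic_of_prime_card (p := 2) hk
    · exact absurd ((hk ▸ Dvd.intro (2 ^ k) (by rw [pow_succ, pow_succ]; ring) : 4 ∣ Nat.card V).trans
        (card_subgroup_dvd_card V)) h4
  haveI := hN
  have hodd : Odd (Nat.card N) := by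
    refine Nat.not_even_iff_odd.1 fun h => P.not_dvd_index ?_
    rw [hc.index_eq_card]; exact h.two_dvd
  have h := hc.card_mul_card
  rw [hO N hN hodd, card_bot, one_mul] at h
  obtain ⟨k, hk⟩ := P.2.exists_card_eq
  rw [← h, hk] at h2 h4 ⊢
  rcases k with _ | _ | k
  · norm_num at h2
  · norm_num
  · exact absurd (Dvd.intro (2 ^ k) (by rw [pow_succ, pow_succ]; ring)) h4

/-- A group with quaternion Sylow 2-subgroups and no odd core has a centre of order two, with dihedral
Sylow 2-subgroups and no odd core in the quotient. -/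
theorem quaternion_quot (T : Sylow 2 G) (n : ℕ) (eT : ↥(T : Subgroup G) ≃* QuaternionGroup (2 ^ (n + 1)))
    (hO0 : NoOdd G) :
    Nat.card (center G) = 2 ∧ Cfsg.oddCore (G ⧸ center G) = ⊥ ∧
      Nonempty (↥(T.mapSurjective (QuotientGroup.mk'_surjective (center G)) : Subgroup (G ⧸ center G)) ≃*
        DihedralGroup (2 ^ (n + 1))) := by
  haveI : Fact (Nat.Prime 2) := ⟨Nat.prime_two⟩
  set Z := center G with hZ
  have hZ2 : Nat.card Z = 2 := Cfsg.Agent.S0201.result T n eT hO0
  set r := QuotientGroup.mk' Z with hr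
  set U : Sylow 2 (G ⧸ Z) := T.mapSurjective (QuotientGroup.mk'_surjective Z)
  -- the Sylow subgroup of the quotient is dihedral
  have hU : Nonempty ((U : Subgroup (G ⧸ Z)) ≃* DihedralGroup (2 ^ (n + 1))) := by
    set f := r.comp (T : Subgroup G).subtype with hf
    set φ := (quatToDihedral (2 ^ (n + 1))).comp eT.toMonoidHom with hφ
    have hφs : Function.Surjective φ := (quatToDihedral_surjective _).comp eT.surjective
    have hφ2 : Nat.card φ.ker = 2 := by
      have h := φ.ker.card_mul_index
      rw [index_ker, MonoidHom.range_eq_top.2 hφs, Nat.card_congr Subgroup.topEquiv.toEquiv,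
        DihedralGroup.nat_card, Nat.card_congr eT.toEquiv,
        Nat.card_eq_fintype_card (α := QuaternionGroup (2 ^ (n + 1))), QuaternionGroup.card] at h
      have hp := Nat.two_pow_pos (n + 1)
      nlinarith
    have hZT : Z ≤ (T : Subgroup G) :=
      fun x hx => Cfsg.Lib.CyclicInter.mem_of_normal (IsPGroup.of_card (n := 1) (by rw [hZ2, pow_one])) T hx
    have hfk : f.ker = Z.subgroupOf (T : Subgroup G) := by
      ext x
      rw [MonoidHom.mem_ker, mem_subgroupOf]
      exact QuotientGroup.eq_one_iff _
    have hf2 : Nat.card f.ker = 2 := by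
      rw [hfk, Nat.card_congr (subgroupOfEquivOfLe hZT).toEquiv, hZ2]
    have huni : f.ker = φ.ker := by
      have key : ∀ K : Subgroup ↥(T : Subgroup G), Nat.card K = 2 →
          ∀ L : Subgroup ↥(T : Subgroup G), Nat.card L = 2 → K ≤ L := by
        intro K hK L hL x hx
        by_cases hx1 : x = 1
        · rw [hx1]; exact one_mem _
        obtain ⟨y, hy, hy1⟩ := L.bot_or_exists_ne_one.resolve_left fun e => by
          rw [e, card_bot] at hL; omega
        have hord : ∀ {K : Subgroup ↥(T : Subgroup G)} {w}, Nat.card K = 2 → w ∈ K → w ≠ 1 →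
            orderOf (eT w) = 2 := by
          intro K w hK hw hw1
          rw [MulEquiv.orderOf_eq]
          refine orderOf_eq_prime ?_ hw1
          have := pow_card_eq_one' (x := (⟨w, hw⟩ : K))
          rw [hK] at this
          exact congrArg Subtype.val this
        have hs : Nat.card {x : QuaternionGroup (2 ^ (n + 1)) // orderOf x = 2} = 1 := Cfsg.Agent.S0218.result n
        haveI := (Nat.card_eq_one_iff_unique.1 hs).1
        have e : eT x = eT y := congrArg Subtype.val (Subsingleton.elim
          (⟨eT x, hord hK hx hx1⟩ : {x : QuaternionGroup (2 ^ (n + 1)) // orderOf x = 2})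
          ⟨eT y, hord hL hy hy1⟩)
        rwa [eT.injective e]
      exact le_antisymm (key _ hf2 _ hφ2) (key _ hφ2 _ hf2)
    have e1 : f.range = (U : Subgroup (G ⧸ Z)) := by
      rw [MonoidHom.range_comp, Subgroup.range_subtype]; rfl
    exact ⟨(MulEquiv.subgroupCongr e1.symm).trans ((QuotientGroup.quotientKerEquivRange f).symm.trans
      ((QuotientGroup.quotientMulEquivOfEq huni).trans (QuotientGroup.quotientKerEquivOfSurjective φ hφs)))⟩
  -- the quotient has no odd normal subgroup
  have hO1 : Cfsg.oddCore (G ⧸ Z) = ⊥ := by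
    set M := Cfsg.oddCore (G ⧸ Z)
    have hMn : M.Normal := inferInstance
    haveI := hMn
    have hMo : Odd (Nat.card M) := Nat.coprime_two_right.1 (Cfsg.Lib.Components.coprime_card_pPrimeCore 2)
    have hc : Nat.card (M.comap r) = Nat.card Z * Nat.card M := Cfsg.Lib.Coprime.card_comap_mk' M
    have h := card_two_of (noOdd_sub hO0 (M.comap r)) (by rw [hc, hZ2]; exact dvd_mul_right _ _) fun h => by
      rw [hc, hZ2] at h
      exact Nat.not_even_iff_odd.2 hMo (even_iff_two_dvd.2
        (Nat.dvd_of_mul_dvd_mul_left two_pos (show 2 * 2 ∣ 2 * Nat.card M from h)))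
    rw [hc, hZ2] at h
    exact card_eq_one.1 (by omega)
  exact ⟨hZ2, hO1, hU⟩

end Cfsg.Lib.GWD
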