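import Cfsg.Agent.GWDihedral.Consumers.QGroup.Quotient
import Cfsg.Agent.GWDihedral.Consumers.DoubleCover
import Cfsg.Agent.GWDihedral.Shell.Reduce
import Cfsg.Agent.GWDihedral.Proper.Basic
import Cfsg.Agent.SolvStruct.QuaternionSylowSection

/-!
Groups without subgroup of index two and without odd core, with quaternion Sylow 2-subgroups.
-/

set_option autoImplicit false
set_option linter.unusedSectionVars false
set_option linter.style.haveILetI false

namespace Cfsg.Lib.GWD

open Subgroup Cfsg.Lib.GenDihedral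
open Cfsg.Lib.SolvStruct.QuaternionSection
open scoped commutatorElement

universe u

variable {G : Type u} [Group G] [Finite G]

theorem card_sl_three : Nat.card (Matrix.SpecialLinearGroup (Fin 2) (ZMod 3)) = 24 := by
  rw [← Nat.card_congr (Equiv.ofBijective _ prodMap_SL_bij), Nat.card_prod, Nat.card_zmod,
    Nat.card_eq_fintype_card, QuaternionGroup.card]

/-- The solvable case is `SL(2, 3)`. -/
theorem quaternion_kernel_solvable (hO : NoOdd G) (hidx : ∀ M : Subgroup G, M.index ≠ 2) (T : Sylow 2 G) (n : ℕ)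
    (eT : ↥(T : Subgroup G) ≃* QuaternionGroup (2 ^ (n + 1))) (hs : Group.IsSolvable G) :
    Nat.card G = 24 ∧ (T : Subgroup G).Normal ∧ n = 0 ∧
      Nonempty (G ≃* Matrix.SpecialLinearGroup (Fin 2) (ZMod 3)) := by
  haveI : Fact (Nat.Prime 2) := ⟨Nat.prime_two⟩
  haveI := hs
  obtain ⟨hZ2, hO1, hU⟩ := quaternion_quot T n eT hO
  set Z := center G
  set π := QuotientGroup.mk' Z
  have hU2 : 2 ≤ 2 ^ (n + 1) := Nat.le_self_pow (Nat.succ_ne_zero n) 2
  have hO' : NoOdd (G ⧸ Z) := fun M hM ho => by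
    have := @Cfsg.Lib.Components.le_pPrimeCore _ _ 2 M hM (Nat.coprime_two_right.2 ho)
    exact le_bot_iff.1 (hO1 ▸ this)
  have hcardT : Nat.card (T : Subgroup G) = 4 * 2 ^ (n + 1) := by
    rw [Nat.card_congr eT.toEquiv, Nat.card_eq_fintype_card (α := QuaternionGroup (2 ^ (n + 1))), QuaternionGroup.card]
  rcases solvable_shape (T.mapSurjective (QuotientGroup.mk'_surjective Z)) (Or.inr ⟨_, hU2, hU⟩) hO' inferInstance with
    h2 | ⟨P, hP, hK, -, hi⟩
  · exfalso
    obtain ⟨k, hk⟩ := IsPGroup.iff_card.1 h2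
    have hG : Nat.card G = 2 ^ (k + 1) := by
      rw [Subgroup.card_eq_card_quotient_mul_card_subgroup Z, hk, hZ2, pow_succ]
    obtain ⟨L, hL⟩ := Sylow.exists_subgroup_card_pow_prime (G := G) 2 (n := k) (hG ▸ pow_dvd_pow 2 (Nat.le_succ k))
    refine hidx L ?_
    have h := L.card_mul_index
    rw [hL, hG, pow_succ] at h
    exact Nat.eq_of_mul_eq_mul_left (Nat.two_pow_pos k) h
  haveI := hP
  rcases hi with hi | hi
  swap
  · exfalso
    haveI : Fact (Nat.Prime 2) := ⟨Nat.prime_two⟩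
    obtain ⟨r, hr⟩ := exists_prime_orderOf_dvd_card' (G := (G ⧸ Z) ⧸ P) 2 (by rw [← index_eq_card, hi]; norm_num)
    obtain ⟨M, -, hM⟩ := exists_normal_index_two (Z := (G ⧸ Z) ⧸ P) (by rw [← index_eq_card, hi]; norm_num) hr
    refine hidx ((M.comap (QuotientGroup.mk' P)).comap π) ?_
    rw [index_comap_of_surjective _ (QuotientGroup.mk'_surjective Z),
      index_comap_of_surjective _ (QuotientGroup.mk'_surjective P), hM]
  have hG : Nat.card G = 24 := by
    rw [Subgroup.card_eq_card_quotient_mul_card_subgroup Z, hZ2, ← P.card_mul_index, hi, hK.card_four]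
  have hn : n = 0 := by
    have h := (T : Subgroup G).card_mul_index
    rw [hcardT, hG] at h
    rcases n with _ | n
    · rfl
    · exfalso
      have h16 : 16 ∣ 24 := Dvd.intro (2 ^ n * (T : Subgroup G).index) (by
        rw [show 2 ^ (n + 1 + 1) = 4 * 2 ^ n by rw [pow_succ, pow_succ]; ring] at h
        linarith)
      norm_num at h16
  subst hn
  have hPc : Nat.card ↥(P.comap π) = 8 := by
    rw [Cfsg.Lib.Coprime.card_comap_mk' P, hK.card_four, hZ2]
  haveI hPn : (P.comap π).Normal := inferInstance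
  have hT : (T : Subgroup G) = P.comap π := by
    have hle : P.comap π ≤ (T : Subgroup G) := fun x hx =>
      Cfsg.Lib.CyclicInter.mem_of_normal (IsPGroup.of_card (n := 3) (by rw [hPc]; rfl)) T hx
    exact (Subgroup.eq_of_le_of_card_ge hle (by rw [hcardT, hPc]; norm_num)).symm
  have hTn : (T : Subgroup G).Normal := hT ▸ hPn
  refine ⟨hG, hTn, rfl, ?_⟩
  haveI : Fact (Nat.Prime 3) := ⟨Nat.prime_three⟩
  obtain ⟨x, hx⟩ := exists_prime_orderOf_dvd_card' (G := G) 3 (by rw [hG]; norm_num)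
  let e : Q8 →* G := (T : Subgroup G).subtype.comp eT.symm.toMonoidHom
  have he : Function.Injective e := (T : Subgroup G).subtype_injective.comp eT.symm.injective
  obtain ⟨H, K, hKn, ⟨ψ⟩⟩ := section_of_auto e he x (by rw [hx]; norm_num)
    (fun q => ⟨eT ⟨_, hTn.conj_mem _ (eT.symm q).2 x⟩, by simp [e]⟩) (by
      by_contra h
      push Not at h
      have hxT : (T : Subgroup G) ≤ centralizer ({x} : Set G) := fun y hy => GenDihedral.mem_cent.2 (by
        have := h (eT ⟨y, hy⟩)
        simp [e] at this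
        exact (mul_inv_eq_iff_eq_mul.1 this).symm)
      have h24 : Nat.card (centralizer ({x} : Set G)) = Nat.card G := by
        refine Nat.dvd_antisymm (card_subgroup_dvd_card _) ?_
        rw [hG]
        refine Nat.Coprime.mul_dvd_of_dvd_of_dvd (show Nat.Coprime 8 3 by norm_num) ?_ ?_
        · exact (show Nat.card (T : Subgroup G) = 8 by rw [hcardT]; norm_num) ▸ card_dvd_of_le hxT
        · exact hx ▸ Subgroup.orderOf_dvd_natCard _ (GenDihedral.mem_cent.2 rfl)
      have htop := (card_eq_iff_eq_top _).1 h24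
      have hxZ : x ∈ Z := mem_center_iff.2 fun y => GenDihedral.mem_cent.1 (htop.ge (mem_top y))
      have := Subgroup.orderOf_dvd_natCard _ hxZ
      rw [hx, hZ2] at this
      norm_num at this)
  have hmul := (K.subgroupOf H).card_mul_index
  rw [index_eq_card, Nat.card_congr ψ.toEquiv, card_sl_three] at hmul
  have hH := card_le_card_group H
  have hpos : 0 < Nat.card (K.subgroupOf H) := Nat.card_pos
  have hK1 : K.subgroupOf H = ⊥ := card_eq_one.1 (by omega)
  have hH1 : H = ⊤ := (card_eq_iff_eq_top H).1 (by omega)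
  subst hH1
  haveI := hKn
  exact ⟨(Subgroup.topEquiv.symm.trans ((QuotientGroup.quotientMulEquivOfEq hK1).trans
    QuotientGroup.quotientBot).symm).trans ψ⟩

/-- The non-solvable case. -/
theorem quaternion_kernel (hD : DihedralProp.{u}) (hO : NoOdd G) (hidx : ∀ M : Subgroup G, M.index ≠ 2)
    (T : Sylow 2 G) (n : ℕ) (eT : ↥(T : Subgroup G) ≃* QuaternionGroup (2 ^ (n + 1))) (hs : ¬ Group.IsSolvable G) :
    ∃ L : Subgroup G, L.Normal ∧ Odd L.index ∧ center G ≤ L ∧ commutator ↥L = ⊤ ∧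
      IsSimpleGroup (↥L ⧸ center ↥L) ∧ (∀ N : Subgroup G, N.Normal → Group.IsSolvable N → N ≤ center G) ∧
      ((∃ (F : Type) (_ : Field F) (_ : Fintype F), Odd (Fintype.card F) ∧ 5 ≤ Fintype.card F ∧
          Nonempty (↥L ≃* Matrix.SpecialLinearGroup (Fin 2) F) ∧
          Nonempty (↥L ⧸ center ↥L ≃* Matrix.ProjectiveSpecialLinearGroup (Fin 2) F)) ∨
        (Nat.card L = 5040 ∧ Nonempty (↥L ⧸ center ↥L ≃* alternatingGroup (Fin 7)))) := by
  haveI : Fact (Nat.Prime 2) := ⟨Nat.prime_two⟩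
  obtain ⟨hZ2, hO1, hU⟩ := quaternion_quot T n eT hO
  set Z := center G with hZ
  set π := QuotientGroup.mk' Z with hπ
  have hO' : NoOdd (G ⧸ Z) := fun M hM ho => by
    have := @Cfsg.Lib.Components.le_pPrimeCore _ _ 2 M hM (Nat.coprime_two_right.2 ho)
    exact le_bot_iff.1 (hO1 ▸ this)
  have hU2 : 2 ≤ 2 ^ (n + 1) := Nat.le_self_pow (Nat.succ_ne_zero n) 2
  have hns : ¬ Group.IsSolvable (G ⧸ Z) := fun h => hs (solvable_ext Z (Group.isSolvable_of_comm fun a b =>
    Subtype.ext (mem_center_iff.1 b.2 a)) h)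
  obtain ⟨L₁, hL₁n, hL₁s, hL₁ns, hL₁4, hL₁c, P, d, hd, hP⟩ :=
    minimal_normal (T.mapSurjective (QuotientGroup.mk'_surjective Z)) hU2 hU hO' hns
  haveI := hL₁n
  haveI := hL₁s
  have hodd : Odd L₁.index := by
    refine Nat.not_even_iff_odd.1 fun h => ?_
    obtain ⟨r, hr⟩ := exists_prime_orderOf_dvd_card' (G := (G ⧸ Z) ⧸ L₁) 2 (by rw [← index_eq_card]; exact h.two_dvd)
    obtain ⟨M, -, hM⟩ := exists_normal_index_two (Z := (G ⧸ Z) ⧸ L₁) (by rwa [← index_eq_card]) hr
    refine hidx ((M.comap (QuotientGroup.mk' L₁)).comap π) ?_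
    rw [index_comap_of_surjective _ (QuotientGroup.mk'_surjective Z),
      index_comap_of_surjective _ (QuotientGroup.mk'_surjective L₁), hM]
  set L := L₁.comap π with hL
  haveI hLn : L.Normal := inferInstance
  have hZL : Z ≤ L := (QuotientGroup.ker_mk' Z).symm.le.trans (ker_le_comap π L₁)
  have hLodd : Odd L.index := by rwa [hL, index_comap_of_surjective _ (QuotientGroup.mk'_surjective Z)]
  have hperf₁ : ⁅L₁, L₁⁆ = L₁ := by
    have hn : ((⁅L₁, L₁⁆).subgroupOf L₁).Normal := inferInstance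
    rcases hn.eq_bot_or_eq_top with h | h
    · refine absurd (Group.isSolvable_of_comm fun a b => ?_) hL₁ns
      have h' : (⁅L₁, L₁⁆ : Subgroup (G ⧸ Z)) = ⊥ := (subgroupOf_eq_bot.1 h).eq_bot_of_le (commutator_le_self L₁)
      exact Subtype.ext (commutatorElement_eq_one_iff_mul_comm.1 (mem_bot.1 (h' ▸ commutator_mem_commutator a.2 b.2)))
    · exact le_antisymm (commutator_le_self L₁) (subgroupOf_eq_top.1 h)
  -- the preimage is perfect
  have hZc : ∀ z ∈ Z, ∀ g : G, g * z = z * g := fun z hz g => mem_center_iff.1 hz g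
  obtain ⟨r₀, hr₀⟩ : ∃ r : G, r ∈ ⁅L, L⁆ ∧ orderOf r = 2 := by
    have hmap : (⁅L, L⁆).map π = L₁ := by
      rw [map_commutator, hL, Subgroup.map_comap_eq_self_of_surjective (QuotientGroup.mk'_surjective Z), hperf₁]
    have h2 : 2 ∣ Nat.card L₁ := by
      rw [← P.1.card_mul_index, Nat.card_congr hP.some.toEquiv, DihedralGroup.nat_card]
      exact (dvd_mul_right 2 d).mul_right _
    have h2' : 2 ∣ Nat.card (⁅L, L⁆ : Subgroup G) := h2.trans (hmap ▸ card_map_dvd _ _)
    obtain ⟨⟨r, hr⟩, hr2⟩ := exists_prime_orderOf_dvd_card' 2 h2'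
    exact ⟨r, hr, by rwa [Subgroup.orderOf_mk] at hr2⟩
  have hZle : Z ≤ ⁅L, L⁆ := by
    haveI := Fintype.ofFinite G
    obtain ⟨z, hz, hz1⟩ := Z.bot_or_exists_ne_one.resolve_left fun e => by rw [e, card_bot] at hZ2; omega
    have hz2 : orderOf z = 2 := by
      have := Subgroup.orderOf_dvd_natCard _ hz
      rw [hZ2] at this
      rcases (Nat.dvd_prime Nat.prime_two).1 this with h | h
      · exact absurd (orderOf_eq_one_iff.1 h) hz1
      · exact h
    -- the only involution
    have hone : r₀ = z := by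
      obtain ⟨T', hT'⟩ := (show IsPGroup 2 (zpowers r₀) from IsPGroup.of_card (n := 1) (by
        rw [Nat.card_zpowers, hr₀.2, pow_one])).exists_le_sylow
      obtain ⟨g, hg⟩ := MulAction.exists_smul_eq G T' T
      have hrT : g * r₀ * g⁻¹ ∈ (T : Subgroup G) := by
        rw [← hg]; exact ⟨r₀, hT' (mem_zpowers r₀), rfl⟩
      have hzT : z ∈ (T : Subgroup G) :=
        Cfsg.Lib.CyclicInter.mem_of_normal (IsPGroup.of_card (n := 1) (by rw [hZ2, pow_one])) T hz
      have hs1 : Nat.card {x : QuaternionGroup (2 ^ (n + 1)) // orderOf x = 2} = 1 := Cfsg.Agent.S0218.result n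
      haveI := (Nat.card_eq_one_iff_unique.1 hs1).1
      have ho : orderOf (g * r₀ * g⁻¹) = 2 := by rw [← MulAut.conj_apply, MulEquiv.orderOf_eq, hr₀.2]
      have := congrArg Subtype.val (Subsingleton.elim
        (⟨eT ⟨_, hrT⟩, by rw [MulEquiv.orderOf_eq, Subgroup.orderOf_mk, ho]⟩ :
          {x : QuaternionGroup (2 ^ (n + 1)) // orderOf x = 2})
        ⟨eT ⟨z, hzT⟩, by rw [MulEquiv.orderOf_eq, Subgroup.orderOf_mk, hz2]⟩)
      have h' : g * r₀ * g⁻¹ = z := congrArg Subtype.val (eT.injective this)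
      calc r₀ = g⁻¹ * (g * r₀ * g⁻¹) * g := by group
        _ = g⁻¹ * (z * g) := by rw [h', mul_assoc]
        _ = z := by rw [← hZc z hz g, inv_mul_cancel_left]
    intro x hx
    have hsub : Z = zpowers z := (Subgroup.eq_of_le_of_card_ge (zpowers_le.2 hz)
      (by rw [Nat.card_zpowers, hz2, hZ2])).symm
    exact (hsub ▸ zpowers_le.2 (hone ▸ hr₀.1) : Z ≤ ⁅L, L⁆) hx
  have hperf : ⁅L, L⁆ = L := by
    refine le_antisymm (commutator_le_self L) fun x hx => ?_
    have hmap : (⁅L, L⁆).map π = L₁ := by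
      rw [map_commutator, hL, Subgroup.map_comap_eq_self_of_surjective (QuotientGroup.mk'_surjective Z), hperf₁]
    obtain ⟨y, hy, hyx⟩ := hmap.ge (show π x ∈ L₁ from hx)
    have hz : y⁻¹ * x ∈ Z := QuotientGroup.eq.1 hyx
    have := mul_mem hy (hZle hz)
    rwa [mul_inv_cancel_left] at this
  have hperf' : commutator ↥L = ⊤ := by
    refine eq_top_iff.2 fun x _ => ?_
    have h : L ≤ (commutator ↥L).map L.subtype := by
      rw [_root_.commutator_def, map_commutator, ← MonoidHom.range_eq_map, range_subtype, hperf]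
    obtain ⟨y, hy, hyx⟩ := h x.2
    exact (Subtype.ext hyx : y = x) ▸ hy
  -- the centre of the preimage
  set f : ↥L →* ↥L₁ := (π.comp L.subtype).codRestrict L₁ fun x => x.2 with hf
  have hfs : Function.Surjective f := by
    rintro ⟨y, hy⟩
    obtain ⟨x, rfl⟩ := QuotientGroup.mk'_surjective Z y
    exact ⟨⟨x, hy⟩, rfl⟩
  have hker : f.ker = Z.subgroupOf L := by
    ext x
    rw [MonoidHom.mem_ker, mem_subgroupOf]
    exact Subtype.ext_iff.trans (QuotientGroup.eq_one_iff _)
  have hcL : center ↥L = f.ker := by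
    refine le_antisymm (fun x hx => ?_) (hker.le.trans fun x hx => mem_center_iff.2 fun y =>
      Subtype.ext (hZc _ (mem_subgroupOf.1 hx) _))
    haveI hn : ((center ↥L).map f).Normal := (inferInstance : (center ↥L).Normal).map f hfs
    rcases hn.eq_bot_or_eq_top with h | h
    · exact MonoidHom.mem_ker.2 (mem_bot.1 (h ▸ mem_map_of_mem f hx))
    · refine absurd (Group.isSolvable_of_comm fun a b => ?_) hL₁ns
      obtain ⟨a', ha, rfl⟩ := h.ge (mem_top a)
      obtain ⟨b', -, rfl⟩ := h.ge (mem_top b)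
      rw [← map_mul, ← map_mul, mem_center_iff.1 ha b']
  let eQ : ↥L ⧸ center ↥L ≃* ↥L₁ :=
    (QuotientGroup.quotientMulEquivOfEq hcL).trans (QuotientGroup.quotientKerEquivOfSurjective f hfs)
  have hsimp : IsSimpleGroup (↥L ⧸ center ↥L) := by
    haveI : Nontrivial (↥L ⧸ center ↥L) := eQ.toEquiv.nontrivial
    exact IsSimpleGroup.isSimpleGroup_of_surjective eQ.symm.toMonoidHom eQ.symm.surjective
  have hcard2 : Nat.card (center ↥L) = 2 := by
    rw [hcL, hker, Nat.card_congr (subgroupOfEquivOfLe hZL).toEquiv, hZ2]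
  refine ⟨L, hLn, hLodd, hZL, hperf', hsimp, fun N hN hNs => ?_, ?_⟩
  · haveI := hN
    haveI := hNs
    set N₁ := N.map π with hN₁
    haveI : N₁.Normal := hN.map π (QuotientGroup.mk'_surjective Z)
    have hN₁s : Group.IsSolvable N₁ :=
      Group.isSolvable_of_surjective (MonoidHom.subgroupMap_surjective π N)
    haveI hi : (N₁.subgroupOf L₁).Normal := inferInstance
    rcases hi.eq_bot_or_eq_top with h | h
    · have hd' : Disjoint N₁ L₁ := disjoint_iff.2 (by
        have := subgroupOf_eq_bot.1 h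
        exact disjoint_iff.1 this)
      intro x hx
      refine (QuotientGroup.eq_one_iff _).1 ?_
      show π x = 1
      rw [← Subgroup.mem_bot, ← hL₁c]
      refine mem_centralizer_iff.2 fun y hy => ?_
      exact (Subgroup.commute_of_normal_of_disjoint N₁ L₁ inferInstance inferInstance hd' _ y
        (mem_map_of_mem π hx) hy).eq.symm
    · exfalso
      haveI := hN₁s
      exact hL₁ns (Group.isSolvable_of_isSolvable_injective (f := Subgroup.inclusion (subgroupOf_eq_top.1 h))
        (Subgroup.inclusion_injective _))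
  rcases hD L₁ P d hd hP with ⟨F, i, j, hF, h5, ⟨e⟩⟩ | ⟨⟨e⟩⟩
  · exact Or.inl ⟨F, i, j, hF, h5,
      double_cover hF h5 (center ↥L) le_rfl hcard2 hperf' (eQ.trans e), ⟨eQ.trans e⟩⟩
  · refine Or.inr ⟨?_, ⟨eQ.trans e⟩⟩
    rw [Subgroup.card_eq_card_quotient_mul_card_subgroup (center ↥L), Nat.card_congr (eQ.trans e).toEquiv, hcard2,
      nat_card_alternatingGroup]
    rw [Nat.card_fin]; rfl

end Cfsg.Lib.GWD
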