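import Cfsg.Agent.GWDihedral.Shell.Target
import Cfsg.Agent.Known.Laws
import Cfsg.Agent.SolvStruct.AltAut

/-!
The action of a group on the central quotient of a perfect normal subgroup; small tools.
-/

set_option autoImplicit false
set_option linter.unusedSectionVars false
set_option linter.style.haveILetI false

namespace Cfsg.Lib.GWD

open Subgroup Cfsg.Lib.GenDihedral
open scoped commutatorElement

universe u v

variable {H : Type u} [Group H] [Finite H]

/-- A perfect subgroup lies in the kernel of a map to a solvable group. -/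
theorem perfect_le_ker {Q : Type v} [Group Q] [Group.IsSolvable Q] (f : H →* Q) {X : Subgroup H}
    (hX : ⁅X, X⁆ = X) : X ≤ f.ker := by
  obtain ⟨n, hn⟩ := (Group.isSolvable_def Q).1 ‹_›
  have hle : ∀ m, X.map f ≤ derivedSeries Q m := by
    intro m
    induction m with
    | zero => rw [derivedSeries_zero]; exact le_top
    | succ m ih =>
      rw [derivedSeries_succ]
      calc X.map f = ⁅X.map f, X.map f⁆ := by rw [← map_commutator, hX]
        _ ≤ _ := commutator_mono ih ih
  intro x hx
  exact MonoidHom.mem_ker.2 (mem_bot.1 (hn ▸ hle n (mem_map_of_mem f hx)))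

theorem map_perfect {A : Type v} [Group A] (hA : commutator A = ⊤) (f : A →* H) : ⁅f.range, f.range⁆ = f.range := by
  rw [MonoidHom.range_eq_map, ← map_commutator, ← _root_.commutator_def, hA]

theorem subgroupOf_perfect {K X : Subgroup H} (hle : X ≤ K) (hX : ⁅X, X⁆ = X) :
    ⁅X.subgroupOf K, X.subgroupOf K⁆ = X.subgroupOf K := by
  apply Subgroup.map_injective K.subtype_injective
  rw [map_commutator, map_subgroupOf_eq_of_le hle, hX]

/-- The action on the central quotient of a perfect normal subgroup has the centraliser as its kernel. -/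
theorem exists_action (L : Subgroup H) [L.Normal] (hp : commutator ↥L = ⊤) {Q : Type v} [Group Q]
    (e : ↥L ⧸ center ↥L ≃* Q) :
    ∃ ψ : H →* MulAut Q, ψ.ker = centralizer (L : Set H) ∧ ∀ m : Q, ∃ l ∈ L, ψ l = MulAut.conj m := by
  set Z := center ↥L
  have hmapZ : ∀ h : H, Z.map ((MulAut.conjNormal h : MulAut L) : ↥L →* ↥L) = Z := fun h =>
    Subgroup.characteristic_iff_map_eq.1 inferInstance _
  let δ : H →* MulAut (↥L ⧸ Z) :=
    { toFun := fun h => QuotientGroup.congr Z Z (MulAut.conjNormal h) (hmapZ h)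
      map_one' := MulEquiv.ext fun x => QuotientGroup.induction_on x fun l => by
        show QuotientGroup.mk ((MulAut.conjNormal (1 : H) : MulAut L) l) = _
        rw [map_one]; rfl
      map_mul' := fun a b => MulEquiv.ext fun x => QuotientGroup.induction_on x fun l => by
        show QuotientGroup.mk ((MulAut.conjNormal (a * b) : MulAut L) l) = _
        rw [map_mul]; rfl }
  have hδ : ∀ (h : H) (l : L), δ h (QuotientGroup.mk l) = QuotientGroup.mk ((MulAut.conjNormal h : MulAut L) l) :=
    fun _ _ => rfl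
  refine ⟨(MulAut.congr e).toMonoidHom.comp δ, ?_, ?_⟩
  · ext c
    rw [MonoidHom.mem_ker]
    show MulAut.congr e (δ c) = 1 ↔ _
    rw [map_eq_one_iff _ (MulAut.congr e).injective]
    constructor
    · intro hc
      have hz : ∀ l : L, (MulAut.conjNormal c : MulAut L) l * l⁻¹ ∈ Z := fun l => by
        have h1 : QuotientGroup.mk ((MulAut.conjNormal c : MulAut L) l) = (QuotientGroup.mk l : ↥L ⧸ Z) := by
          rw [← hδ, hc]; rfl
        exact (QuotientGroup.eq_one_iff _).1 (by
          show (QuotientGroup.mk ((MulAut.conjNormal c : MulAut L) l * l⁻¹) : ↥L ⧸ Z) = 1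
          rw [QuotientGroup.mk_mul, QuotientGroup.mk_inv, h1, mul_inv_cancel])
      let d : ↥L →* Z :=
        { toFun := fun l => ⟨_, hz l⟩
          map_one' := Subtype.ext (by simp)
          map_mul' := fun a b => Subtype.ext (by
            show (MulAut.conjNormal c : MulAut L) (a * b) * (a * b)⁻¹ =
              (MulAut.conjNormal c : MulAut L) a * a⁻¹ * ((MulAut.conjNormal c : MulAut L) b * b⁻¹)
            set α := (MulAut.conjNormal c : MulAut L)
            have hb := mem_center_iff.1 (hz b) (a⁻¹)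
            rw [map_mul, _root_.mul_inv_rev]
            calc α a * α b * (b⁻¹ * a⁻¹) = α a * ((α b * b⁻¹) * a⁻¹) := by group
              _ = α a * (a⁻¹ * (α b * b⁻¹)) := by rw [hb]
              _ = _ := by group) }
      haveI : IsMulCommutative Z := inferInstance
      have hker : commutator ↥L ≤ d.ker := by
        rw [_root_.commutator_def, commutator_le]
        intro a _ b _
        rw [MonoidHom.mem_ker, map_commutatorElement]
        exact commutatorElement_eq_one_iff_mul_comm.2 (Subtype.ext (mem_center_iff.1 (hz b) _))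
      refine mem_centralizer_iff.2 fun x hx => ?_
      have h1 : (d ⟨x, hx⟩ : ↥L) = (1 : ↥L) := congrArg Subtype.val (MonoidHom.mem_ker.1 (hker (hp ▸ mem_top _)))
      have h2 := congrArg Subtype.val (mul_inv_eq_one.1 h1)
      rw [MulAut.conjNormal_apply] at h2
      exact (mul_inv_eq_iff_eq_mul.1 h2).symm
    · intro hc
      refine MulEquiv.ext fun x => QuotientGroup.induction_on x fun l => ?_
      rw [hδ]
      show QuotientGroup.mk _ = (QuotientGroup.mk l : ↥L ⧸ Z)
      congr 1
      refine Subtype.ext ?_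
      rw [MulAut.conjNormal_apply, mul_inv_eq_iff_eq_mul]
      exact (mem_centralizer_iff.1 hc _ l.2).symm
  · intro m
    obtain ⟨l, hl⟩ := QuotientGroup.mk_surjective (e.symm m)
    refine ⟨l, l.2, MulEquiv.ext fun x => ?_⟩
    obtain ⟨y, rfl⟩ := e.surjective x
    show e (δ l (e.symm (e y))) = m * e y * m⁻¹
    rw [e.symm_apply_apply, ← e.apply_symm_apply m, ← map_inv, ← map_mul, ← map_mul, ← hl]
    congr 1
    refine QuotientGroup.induction_on y fun w => ?_
    rw [hδ, ← QuotientGroup.mk_inv, ← QuotientGroup.mk_mul, ← QuotientGroup.mk_mul]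
    congr 1

/-- A group with an abelian Sylow subgroup of odd index and central commutators of 2-power order is abelian. -/
theorem comm_of_central_commutators {Q : Type v} [Group Q] [Finite Q] (T : Subgroup Q) (hTi : Odd T.index)
    (hT2 : IsPGroup 2 T) (hTc : ∀ a ∈ T, ∀ b ∈ T, a * b = b * a)
    (hc : ∀ x y : Q, ⁅x, y⁆ ∈ center Q ⊓ T) (x y : Q) : x * y = y * x := by
  haveI hTn : T.Normal := ⟨fun t ht g => by
    have := mul_mem (hc g t).2 ht
    rwa [commutatorElement_def, inv_mul_cancel_right] at this⟩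
  have hmul : ∀ a b c : Q, ⁅a * b, c⁆ = ⁅a, c⁆ * ⁅b, c⁆ := fun a b c => by
    have hz := mem_center_iff.1 (hc b c).1
    calc ⁅a * b, c⁆ = a * ⁅b, c⁆ * (c * a⁻¹ * c⁻¹) := by simp only [commutatorElement_def]; group
      _ = ⁅a, c⁆ * ⁅b, c⁆ := by
        rw [hz a, mul_assoc, ← hz (a * (c * a⁻¹ * c⁻¹))]
        simp only [commutatorElement_def]; group
  have hinv : ∀ a b : Q, ⁅a, b⁆ = ⁅b, a⁆⁻¹ := fun a b => (commutatorElement_inv b a).symm
  have hpow : ∀ (a c : Q) (k : ℕ), ⁅a ^ k, c⁆ = ⁅a, c⁆ ^ k := by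
    intro a c k
    induction k with
    | zero => rw [pow_zero, pow_zero, commutatorElement_one_left]
    | succ k ih => rw [pow_succ, pow_succ, hmul, ih]
  set m := T.index with hm
  have h1 : ⁅x ^ m, y ^ m⁆ = 1 :=
    commutatorElement_eq_one_iff_mul_comm.2 (hTc _ (T.pow_index_mem x) _ (T.pow_index_mem y))
  rw [hpow, hinv x (y ^ m), hpow, ← inv_pow, ← hinv, ← pow_mul] at h1
  obtain ⟨k, hk⟩ := IsPGroup.iff_orderOf.1 hT2 ⟨_, (hc x y).2⟩
  rw [Subgroup.orderOf_mk] at hk
  have := Nat.eq_one_of_dvd_coprimes ((Nat.coprime_two_left.2 (hTi.mul hTi)).pow_left k) hk.dvd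
    (orderOf_dvd_of_pow_eq_one h1)
  exact commutatorElement_eq_one_iff_mul_comm.1 (orderOf_eq_one_iff.1 this)

/-- A 2-power-order permutation of seven points has exponent four. -/
theorem perm_seven_pow_four {p : Equiv.Perm (Fin 7)} {k : ℕ} (hp : p ^ 2 ^ k = 1) : p ^ 4 = 1 := by
  refine orderOf_dvd_iff_pow_eq_one.1 ?_
  rw [← Equiv.Perm.lcm_cycleType]
  refine Multiset.lcm_dvd.2 fun n hn => ?_
  have h1 : n ∣ 2 ^ k := (Multiset.dvd_lcm hn).trans (Equiv.Perm.lcm_cycleType p ▸ orderOf_dvd_of_pow_eq_one hp)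
  obtain ⟨j, -, rfl⟩ := (Nat.dvd_prime_pow Nat.prime_two).1 h1
  have h7 : 2 ^ j ≤ 7 := (Multiset.le_sum_of_mem hn).trans (by
    rw [Equiv.Perm.sum_cycleType]; exact (Finset.card_le_univ _).trans (Fintype.card_fin 7).le)
  rcases j with _ | _ | _ | j
  · exact one_dvd 4
  · norm_num
  · norm_num
  · have := Nat.one_le_two_pow (n := j)
    simp only [pow_succ] at h7
    omega

/-- A two-element of an automorphism group of `A₇` has exponent four. -/
theorem aut_alt_seven_pow_four {f : MulAut ↥(alternatingGroup (Fin 7))} {k : ℕ} (hf : f ^ 2 ^ k = 1) : f ^ 4 = 1 := by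
  obtain ⟨p, rfl⟩ :=
    (Cfsg.Lib.SolvStruct.AltAut.conjNormal_bijective (n := 7) (by norm_num) (by norm_num)).2 f
  rw [← map_pow] at hf ⊢
  rw [perm_seven_pow_four (k := k)
    ((Cfsg.Lib.SolvStruct.AltAut.conjNormal_bijective (n := 7) (by norm_num) (by norm_num)).1
      (hf.trans (map_one _).symm)), map_one]

end Cfsg.Lib.GWD
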