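import Cfsg.Agent.GenDihedral.Red.AutTwo

/-!
The outer automorphism group of `PSL(2, q)`, `q` odd, is abelian.
-/

set_option autoImplicit false
set_option linter.unusedSectionVars false
set_option linter.style.haveILetI false

namespace Cfsg.Lib.GWD.Outer

open Subgroup Matrix Cfsg.Lib.Known.AutPSLn
open scoped commutatorElement

variable {F : Type} [Field F] [Fintype F]

local notation "GL2" => GL (Fin 2) F
local notation "P2" => Matrix.ProjectiveSpecialLinearGroup (Fin 2) F

/-- Automorphisms of a finite field commute. -/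
theorem ringAut_comm (σ τ : F ≃+* F) : σ * τ = τ * σ := by
  obtain ⟨ω, hω⟩ := IsCyclic.exists_generator (α := Fˣ)
  obtain ⟨k, hk⟩ := mem_zpowers_iff.1 (hω (Units.map (σ : F →* F) ω))
  obtain ⟨l, hl⟩ := mem_zpowers_iff.1 (hω (Units.map (τ : F →* F) ω))
  refine RingEquiv.ext fun x => ?_
  show σ (τ x) = τ (σ x)
  rcases eq_or_ne x 0 with rfl | hx
  · simp
  obtain ⟨i, hi⟩ := mem_zpowers_iff.1 (hω (Units.mk0 x hx))
  have key : Units.map (σ : F →* F) (Units.map (τ : F →* F) (ω ^ i)) =
      Units.map (τ : F →* F) (Units.map (σ : F →* F) (ω ^ i)) := by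
    simp only [map_zpow, ← hk, ← hl, ← _root_.zpow_mul]
    congr 1
    ring
  rw [hi] at key
  exact congrArg Units.val key

theorem mul_self_map (τ : F ≃+* F) (d : Fˣ) : IsSquare (d * Units.map (τ : F →* F) d) := by
  by_cases h : IsSquare d
  · obtain ⟨r, rfl⟩ := h
    exact ⟨r * Units.map (τ : F →* F) r, by rw [map_mul]; exact mul_mul_mul_comm _ _ _ _⟩
  · refine Cfsg.Lib.CyclicNorm.nonsq_mul h fun h' => h ?_
    have := h'.map (Units.map (τ.symm : F →* F))
    rwa [show Units.map (τ.symm : F →* F) (Units.map (τ : F →* F) d) = d from Units.ext (τ.symm_apply_apply _)] at this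

theorem det_glMap (τ : F ≃+* F) (g : GL2) :
    GeneralLinearGroup.det (glMap τ g) = Units.map (τ : F →* F) (GeneralLinearGroup.det g) :=
  Units.ext (by
    show ((glMap τ g : GL2) : Matrix (Fin 2) (Fin 2) F).det = τ ((g : Matrix (Fin 2) (Fin 2) F).det)
    rw [coe_glMap]
    exact (RingHom.map_det τ.toRingHom _).symm)

/-- A commutator of two automorphisms is inner. -/
theorem commutator_inner (α β : MulAut P2) : ∃ m : P2, ⁅α, β⁆ = MulAut.conj m := by
  obtain ⟨g, σ, rfl⟩ := Cfsg.Lib.GenDihedral.decomp_two α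
  obtain ⟨h, τ, rfl⟩ := Cfsg.Lib.GenDihedral.decomp_two β
  have e1 : (conjP g * fieldP σ : MulAut P2) * (conjP h * fieldP τ) = conjP (g * glMap σ h) * fieldP (σ * τ) := by
    rw [mul_assoc, ← mul_assoc (fieldP σ), fieldP_mul_conjP, map_mul conjP, map_mul fieldP]
    simp only [mul_assoc]
  have e2 : (conjP h * fieldP τ : MulAut P2) * (conjP g * fieldP σ) = conjP (h * glMap τ g) * fieldP (σ * τ) := by
    rw [mul_assoc, ← mul_assoc (fieldP τ), fieldP_mul_conjP, map_mul conjP, ringAut_comm σ τ, map_mul fieldP]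
    simp only [mul_assoc]
  have hsq : IsSquare ((g * glMap σ h * (h * glMap τ g)⁻¹ : GL2) : Matrix (Fin 2) (Fin 2) F).det := by
    obtain ⟨r, hr⟩ := mul_self_map τ (GeneralLinearGroup.det g)
    obtain ⟨s, hs⟩ := mul_self_map σ (GeneralLinearGroup.det h)
    have : GeneralLinearGroup.det (g * glMap σ h * (h * glMap τ g)⁻¹) =
        r * s * (GeneralLinearGroup.det (h * glMap τ g))⁻¹ * (r * s * (GeneralLinearGroup.det (h * glMap τ g))⁻¹) := by
      rw [map_mul, map_inv, map_mul, map_mul, det_glMap, det_glMap]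
      set d := GeneralLinearGroup.det g
      set d' := GeneralLinearGroup.det h
      rw [show r * s * (d' * Units.map (τ : F →* F) d)⁻¹ * (r * s * (d' * Units.map (τ : F →* F) d)⁻¹) =
        (r * r) * (s * s) * ((d' * Units.map (τ : F →* F) d)⁻¹ * (d' * Units.map (τ : F →* F) d)⁻¹) from
          by ac_rfl, ← hr, ← hs]
      calc d * Units.map (σ : F →* F) d' * (d' * Units.map (τ : F →* F) d)⁻¹
          = d * Units.map (σ : F →* F) d' * (d' * Units.map (τ : F →* F) d) *
            ((d' * Units.map (τ : F →* F) d)⁻¹ * (d' * Units.map (τ : F →* F) d)⁻¹) := by group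
        _ = _ := by ac_rfl
    exact ⟨_, congrArg Units.val this⟩
  obtain ⟨m, hm⟩ := Cfsg.Lib.GenDihedral.inner_of_sq_det hsq
  refine ⟨m, ?_⟩
  rw [commutatorElement_def, ← hm, map_mul conjP (g * glMap σ h), map_inv]
  rw [show ∀ a b : MulAut P2, a * b * a⁻¹ * b⁻¹ = (a * b) * (b * a)⁻¹ from fun a b => by group, e1, e2]
  group

end Cfsg.Lib.GWD.Outer
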