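import Cfsg.Agent.PGroups.QuasiDihedral
import Cfsg.Agent.Wreathed.IsolatedCenter

/-!
Non-abelian subgroups of quasi-dihedral and wreathed 2-groups.
-/

set_option autoImplicit false
set_option linter.unusedSectionVars false
set_option linter.style.haveILetI false

namespace Cfsg.Lib.GWD

open Subgroup

universe u

variable {S : Type u} [Group S] [Finite S]

/-- A quasi-dihedral or wreathed 2-group has an abelian subgroup of index two in which only central elements
commute with an element outside. -/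
theorem exists_base (hS : Cfsg.IsQuasiDihedral S ∨ Cfsg.IsWreathed S) :
    ∃ A : Subgroup S, A.index = 2 ∧ (∀ a ∈ A, ∀ b ∈ A, a * b = b * a) ∧
      ∀ g ∉ A, ∀ a ∈ A, a * g = g * a → a ∈ center S := by
  rcases hS with hQ | hW
  · obtain ⟨m, a, b, h⟩ := Cfsg.Lib.QD.exists_gen hQ
    refine ⟨zpowers a, ?_, ?_, ?_⟩
    · have hc := (zpowers a).card_mul_index
      rw [Nat.card_zpowers, h.2.ord, h.2.card, pow_succ] at hc
      exact Nat.eq_of_mul_eq_mul_left (Nat.two_pow_pos m) hc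
    · rintro _ ⟨i, rfl⟩ _ ⟨j, rfl⟩
      exact ((Commute.refl a).zpow_zpow i j).eq
    · rintro g hg _ ⟨j, rfl⟩ hc
      rcases Cfsg.Lib.CyclicMax.cases h.2 g with ⟨i, rfl⟩ | ⟨i, rfl⟩
      · exact absurd (zpow_mem (mem_zpowers a) _) hg
      change a ^ j * (a ^ i * b) = a ^ i * b * a ^ j at hc
      have hb : b * a ^ j = a ^ j * b := by
        refine mul_left_cancel (a := a ^ i) ?_
        rw [← mul_assoc, ← hc, ← mul_assoc, ← mul_assoc, ← zpow_add, ← zpow_add, add_comm]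
      refine mem_center_iff.2 fun x => ?_
      rcases Cfsg.Lib.CyclicMax.cases h.2 x with ⟨k, rfl⟩ | ⟨k, rfl⟩
      · exact ((Commute.refl a).zpow_zpow k j).eq
      · show a ^ k * b * a ^ j = a ^ j * (a ^ k * b)
        rw [mul_assoc, hb, ← mul_assoc, ← mul_assoc, ← zpow_add, ← zpow_add, add_comm]
  · obtain ⟨n, hn, -, ⟨e⟩⟩ := Cfsg.Lib.Wreathed.exists_equiv hW
    refine ⟨(Cfsg.Lib.Wreathed.base n).map e.toMonoidHom, ?_, ?_, ?_⟩
    · rw [show (Cfsg.Lib.Wreathed.base n).map e.toMonoidHom = (Cfsg.Lib.Wreathed.base n).map (e : Cfsg.Lib.Wreathed.Wr n →* S) from rfl,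
        index_map_equiv _ e]
      have h := (Cfsg.Lib.Wreathed.base n).card_mul_index
      rw [Cfsg.Lib.Wreathed.base_card, Cfsg.Lib.Wreathed.Wr.card_eq, pow_succ] at h
      exact Nat.eq_of_mul_eq_mul_left (Nat.two_pow_pos _) h
    · rintro _ ⟨⟨a, b, x⟩, hx, rfl⟩ _ ⟨⟨c, d, y⟩, hy, rfl⟩
      change x = false at hx
      change y = false at hy
      subst hx hy
      rw [← map_mul, ← map_mul]
      congr 1
      ext <;> simp <;> ring
    · rintro g hg _ ⟨⟨a, b, x⟩, hx, rfl⟩ hc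
      change x = false at hx
      subst hx
      obtain ⟨⟨c, d, y⟩, rfl⟩ := e.surjective g
      rcases y with _ | _
      · exact absurd ⟨⟨c, d, false⟩, rfl, rfl⟩ hg
      have hc' : (⟨a, b, false⟩ : Cfsg.Lib.Wreathed.Wr n) * ⟨c, d, true⟩ = ⟨c, d, true⟩ * ⟨a, b, false⟩ :=
        e.injective (by rw [map_mul, map_mul]; exact hc)
      have ha := congrArg Cfsg.Lib.Wreathed.Wr.a hc'
      simp at ha
      have hab : a = b := by linear_combination ha
      refine mem_center_iff.2 fun z => ?_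
      obtain ⟨w, rfl⟩ := e.surjective z
      show e w * e ⟨a, b, false⟩ = e ⟨a, b, false⟩ * e w
      rw [← map_mul, ← map_mul, mem_center_iff.1 ((Cfsg.Lib.Wreathed.mem_center_iff' hn ⟨a, b, false⟩).2 ⟨rfl, hab⟩) w]

/-- The centraliser of a non-abelian subgroup is central. -/
theorem mem_center_of_comm (hS : Cfsg.IsQuasiDihedral S ∨ Cfsg.IsWreathed S) {P : Subgroup S}
    (hP : ∃ g ∈ P, ∃ h ∈ P, g * h ≠ h * g) {x : S} (hx : ∀ g ∈ P, x * g = g * x) : x ∈ center S := by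
  obtain ⟨A, hA2, hAc, hAg⟩ := exists_base hS
  obtain ⟨g, hg, h, hh, hgh⟩ := hP
  by_cases hxA : x ∈ A
  · by_cases hgA : g ∈ A
    · exact hAg h (fun hhA => hgh (hAc g hgA h hhA)) x hxA (hx h hh)
    · exact hAg g hgA x hxA (hx g hg)
  exfalso
  have key : ∀ k ∈ P, ∃ c ∈ center S, k = c ∨ k = c * x := by
    intro k hk
    by_cases hkA : k ∈ A
    · exact ⟨k, hAg x hxA k hkA (hx k hk).symm, Or.inl rfl⟩
    · refine ⟨k * x⁻¹, hAg x hxA _ ((Subgroup.mul_mem_iff_of_index_two hA2).2 (iff_of_false hkA ?_)) ?_,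
        Or.inr (inv_mul_cancel_right k x).symm⟩
      · exact fun h => hxA (inv_mem_iff.1 h)
      · rw [inv_mul_cancel_right, ← mul_assoc, hx k hk, mul_inv_cancel_right]
  obtain ⟨c, hc, hgc⟩ := key g hg
  obtain ⟨d, hd, hhd⟩ := key h hh
  have hcc : ∀ y, Commute c y := fun y => (mem_center_iff.1 hc y).symm
  have hdd : ∀ y, Commute d y := fun y => (mem_center_iff.1 hd y).symm
  apply hgh
  rcases hgc with rfl | rfl
  · exact (hcc h).eq
  rcases hhd with rfl | rfl
  · exact (hdd _).symm.eq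
  · exact ((hcc (d * x)).mul_left ((hdd x).symm.mul_right (Commute.refl x))).eq

/-- The quotient by a normal non-abelian subgroup is abelian. -/
theorem commutator_mem (hS : Cfsg.IsQuasiDihedral S ∨ Cfsg.IsWreathed S) (P : Subgroup S) [P.Normal]
    (hP : ∃ g ∈ P, ∃ h ∈ P, g * h ≠ h * g) (x y : S) : x * y * x⁻¹ * y⁻¹ ∈ P := by
  obtain ⟨A, hA2, hAc, -⟩ := exists_base hS
  obtain ⟨g₀, hg₀, hg₀A⟩ : ∃ g ∈ P, g ∉ A := by
    obtain ⟨g, hg, h, hh, hgh⟩ := hP
    by_cases hgA : g ∈ A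
    · exact ⟨h, hh, fun hhA => hgh (hAc g hgA h hhA)⟩
    · exact ⟨g, hg, hgA⟩
  set π := QuotientGroup.mk' P
  have hsur : ∀ z : S, ∃ a ∈ A, π a = π z := by
    intro z
    by_cases hz : z ∈ A
    · exact ⟨z, hz, rfl⟩
    · refine ⟨z * g₀, (Subgroup.mul_mem_iff_of_index_two hA2).2 (iff_of_false hz hg₀A), ?_⟩
      rw [map_mul, (QuotientGroup.eq_one_iff _).2 hg₀ |> (fun h => (h : π g₀ = 1)), mul_one]
  obtain ⟨a, ha, hax⟩ := hsur x
  obtain ⟨b, hb, hby⟩ := hsur y
  refine (QuotientGroup.eq_one_iff _).1 ?_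
  show π (x * y * x⁻¹ * y⁻¹) = 1
  rw [map_mul, map_mul, map_mul, map_inv, map_inv, ← hax, ← hby, ← map_inv, ← map_inv, ← map_mul, ← map_mul,
    ← map_mul, hAc a ha b hb, mul_inv_cancel_right, mul_inv_cancel, map_one]

end Cfsg.Lib.GWD
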