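import Cfsg.Agent.GWDihedral.Consumers.QGroup.Main
import Cfsg.Agent.S1213
import Cfsg.Agent.S1215
import Cfsg.Agent.TwoFusion.SylowLinearTwo

/-!
The Q-group theorem and the involution centralisers it describes.
-/

set_option autoImplicit false
set_option linter.unusedSectionVars false
set_option linter.style.haveILetI false

namespace Cfsg.Lib.GWD

open Subgroup Cfsg.Lib.GenDihedral

universe u

/-- A quasi-dihedral or wreathed Sylow subgroup, up to isomorphism. -/
theorem qd_or_wreathed_congr {A B : Type u} [Group A] [Group B] (e : A ≃* B)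
    (h : Cfsg.IsQuasiDihedral A ∨ Cfsg.IsWreathed A) : Cfsg.IsQuasiDihedral B ∨ Cfsg.IsWreathed B :=
  h.imp (Cfsg.Lib.SylowTwo.isQuasiDihedral_congr e) (Cfsg.Lib.SylowTwo.isWreathed_congr e)

/-- The normal `SL(2, q)` of a Q-group. -/
theorem qgroup_sl (hD : DihedralProp.{u}) {H : Type u} [Group H] [Finite H] (S : Sylow 2 H)
    (hS : Cfsg.IsQuasiDihedral (S : Subgroup H) ∨ Cfsg.IsWreathed (S : Subgroup H)) (hO : Cfsg.oddCore H = ⊥)
    (hQ : (∃ K : Subgroup H, K.Normal ∧ (∃ a : ℕ, K.index = 2 ^ a) ∧ (∀ M : Subgroup ↥K, M.index ≠ 2) ∧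
        (∀ P : Sylow 2 ↥K, ∃ m : ℕ, 1 ≤ m ∧ Nonempty ((P : Subgroup ↥K) ≃* QuaternionGroup (2 ^ m)))) ∧
      (∀ Z₀ : Subgroup H, Z₀ ≤ ((center (S : Subgroup H)).map (S : Subgroup H).subtype) →
        Cfsg.IsWeaklyClosed Z₀ (S : Subgroup H))) :
    ∃ L₀ : Subgroup H, L₀.Normal ∧
      (∃ (F : Type) (_ : Field F) (_ : Fintype F), Odd (Fintype.card F) ∧
        Nonempty (L₀ ≃* Matrix.SpecialLinearGroup (Fin 2) F)) ∧
      ∀ L₁ : Subgroup H, L₁.Normal → (∃ (F : Type) (_ : Field F) (_ : Fintype F), Odd (Fintype.card F) ∧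
        Nonempty (L₁ ≃* Matrix.SpecialLinearGroup (Fin 2) F)) → L₁ = L₀ := by
  have h15 := Cfsg.Agent.S1215.result S hS hQ
  obtain ⟨⟨K, hK, ⟨a, ha⟩, hidx, hKQ⟩, -⟩ := hQ
  haveI := hK
  have hZc : ∀ z ∈ (center (S : Subgroup H)).map (S : Subgroup H).subtype, z ∈ center H := fun z hz =>
    mem_center_iff.2 fun h => by
      obtain ⟨o, ho, c, hc, rfl⟩ := h15 h
      rw [hO, mem_bot] at ho
      rw [ho, one_mul, ← mem_centralizer_iff.1 hc z hz]
  obtain ⟨L₀, h1, h2, -, h3⟩ := qgroup hD S hS hO hZc K ha hidx hKQ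
  exact ⟨L₀, h1, h2, h3⟩

/-- The derived subgroup of an involution centraliser modulo its core. -/
theorem derived_centralizer (hD : DihedralProp.{u}) {G : Type u} [Group G] [Finite G] (S : Sylow 2 G)
    (hS : Cfsg.IsQuasiDihedral (S : Subgroup G) ∨ Cfsg.IsWreathed (S : Subgroup G))
    (hG : ∀ H : Subgroup G, H.index ≠ 2) (t : G) (ht : orderOf t = 2) :
    ∃ (F : Type) (_ : Field F) (_ : Fintype F), Odd (Fintype.card F) ∧
      Nonempty (↥(commutator (↥(centralizer ({t} : Set G)) ⧸ Cfsg.oddCore ↥(centralizer ({t} : Set G)))) ≃*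
        Matrix.SpecialLinearGroup (Fin 2) F) := by
  haveI : Fact (Nat.Prime 2) := ⟨Nat.prime_two⟩
  set C := centralizer ({t} : Set G)
  obtain ⟨R, hR, hQ⟩ := Cfsg.Agent.S1213.result S hS hG t ht
  have h15 : ∀ hR' : Cfsg.IsQuasiDihedral (R : Subgroup C) ∨ Cfsg.IsWreathed (R : Subgroup C),
      ∀ h : C, ∃ o ∈ Cfsg.oddCore C, ∃ c ∈ centralizer (((center (R : Subgroup C)).map (R : Subgroup C).subtype :
        Subgroup C) : Set C), h = o * c := fun hR' => Cfsg.Agent.S1215.result R hR' hQ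
  have hRs : Cfsg.IsQuasiDihedral (R : Subgroup C) ∨ Cfsg.IsWreathed (R : Subgroup C) := by
    set R₁ := (R : Subgroup C).map C.subtype
    obtain ⟨T, hT⟩ := (R.2.map C.subtype : IsPGroup 2 R₁).exists_le_sylow
    obtain ⟨g, hg⟩ := MulAction.exists_smul_eq G S T
    have hcT : Nat.card (T : Subgroup G) = Nat.card (S : Subgroup G) := by
      rw [← hg]; exact (Nat.card_congr (S.equivSMul g).toEquiv).symm
    have hT' : R₁ = (T : Subgroup G) := Subgroup.eq_of_le_of_card_ge hT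
      (by rw [hcT, card_map_of_injective C.subtype_injective]; exact hR.ge)
    exact qd_or_wreathed_congr ((((S.equivSMul g).trans (MulEquiv.subgroupCongr (congrArg Sylow.toSubgroup hg))).trans
      (MulEquiv.subgroupCongr hT'.symm)).trans
      ((R : Subgroup C).equivMapOfInjective _ C.subtype_injective).symm) hS
  obtain ⟨⟨K, hK, ⟨a, ha⟩, hidx, hKQ⟩, -⟩ := hQ
  haveI := hK
  set O := Cfsg.oddCore C
  have hOo : Odd (Nat.card O) := Nat.coprime_two_right.1 (Cfsg.Lib.Components.coprime_card_pPrimeCore 2)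
  set π := QuotientGroup.mk' O
  have hπ : Function.Surjective π := QuotientGroup.mk'_surjective O
  have hodd1 : ∀ (P : Subgroup C), IsPGroup 2 P → Function.Injective (π.comp P.subtype) := by
    intro P hP
    rw [injective_iff_map_eq_one]
    intro x hx
    obtain ⟨k, hk⟩ := IsPGroup.iff_orderOf.1 hP x
    have hd : orderOf x ∣ Nat.card O := by
      rw [← orderOf_coe]; exact Subgroup.orderOf_dvd_natCard _ ((QuotientGroup.eq_one_iff _).1 hx)
    exact orderOf_eq_one_iff.1 (Nat.eq_one_of_dvd_coprimes ((Nat.coprime_two_left.2 hOo).pow_left k) hk.dvd hd)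
  set R' := R.mapSurjective hπ
  let eR : ↥(R : Subgroup C) ≃* ↥(R' : Subgroup (C ⧸ O)) := (MonoidHom.ofInjective (hodd1 _ R.2)).trans
    (MulEquiv.subgroupCongr (by rw [MonoidHom.range_comp, Subgroup.range_subtype]; rfl))
  haveI : (K.map π).Normal := hK.map π hπ
  obtain ⟨b, -, hb⟩ := (Nat.dvd_prime_pow Nat.prime_two).1 (ha ▸ K.index_map_dvd hπ : (K.map π).index ∣ 2 ^ a)
  have hidx' : ∀ M : Subgroup ↥(K.map π), M.index ≠ 2 := fun M hM => hidx (M.comap (π.subgroupMap K))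
    ((index_comap_of_surjective _ (π.subgroupMap_surjective K)).trans hM)
  have hKQ' : ∀ P : Sylow 2 ↥(K.map π),
      ∃ m : ℕ, 1 ≤ m ∧ Nonempty ((P : Subgroup ↥(K.map π)) ≃* QuaternionGroup (2 ^ m)) := by
    intro P
    obtain ⟨Q⟩ : Nonempty (Sylow 2 K) := inferInstance
    obtain ⟨m, hm, ⟨e⟩⟩ := hKQ Q
    obtain ⟨g, hg⟩ := MulAction.exists_smul_eq (↥(K.map π)) P (Q.mapSurjective (π.subgroupMap_surjective K))
    have hinj : Function.Injective ((π.subgroupMap K).comp (Q : Subgroup K).subtype) := by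
      intro x y h
      have h' : (π.comp ((Q : Subgroup K).map K.subtype).subtype) ⟨x, mem_map_of_mem K.subtype x.2⟩ =
          (π.comp ((Q : Subgroup K).map K.subtype).subtype) ⟨y, mem_map_of_mem K.subtype y.2⟩ :=
        congrArg Subtype.val h
      have := congrArg Subtype.val (hodd1 _ (Q.2.map K.subtype) h')
      exact Subtype.ext (Subtype.ext this)
    refine ⟨m, hm, ⟨((((P.equivSMul g).trans (MulEquiv.subgroupCongr (congrArg Sylow.toSubgroup hg))).trans
      (MulEquiv.subgroupCongr ?_)).trans (MonoidHom.ofInjective hinj).symm).trans e⟩⟩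
    rw [MonoidHom.range_comp, Subgroup.range_subtype]; rfl
  have hZc : ∀ z ∈ (center (R' : Subgroup (C ⧸ O))).map (R' : Subgroup (C ⧸ O)).subtype, z ∈ center (C ⧸ O) := by
    rintro _ ⟨z, hz, rfl⟩
    have hz' : (eR.symm z : C) ∈ (center (R : Subgroup C)).map (R : Subgroup C).subtype :=
      mem_map_of_mem _ (mem_center_iff.2 fun r => eR.injective (by
        rw [map_mul, map_mul, eR.apply_symm_apply]; exact mem_center_iff.1 hz (eR r)))
    have hval : (z : C ⧸ O) = π (eR.symm z : C) := (congrArg Subtype.val (eR.apply_symm_apply z)).symm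
    refine mem_center_iff.2 fun x => ?_
    obtain ⟨h, rfl⟩ := hπ x
    obtain ⟨o, ho, c, hc, rfl⟩ := h15 hRs h
    show π (o * c) * (z : C ⧸ O) = (z : C ⧸ O) * π (o * c)
    rw [hval, map_mul, show π o = 1 from (QuotientGroup.eq_one_iff _).2 ho, one_mul, ← map_mul, ← map_mul,
      ← mem_centralizer_iff.1 hc _ hz']
  obtain ⟨L₀, -, ⟨F, i, j, hF, ⟨e⟩⟩, hcomm, -⟩ :=
    qgroup hD R' (qd_or_wreathed_congr eR hRs) (Cfsg.Lib.Components.pPrimeCore_quotient_eq_bot) hZc (K.map π) hb hidx' hKQ'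
  exact ⟨F, i, j, hF, ⟨(MulEquiv.subgroupCongr hcomm).trans e⟩⟩

end Cfsg.Lib.GWD
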