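import Cfsg.Agent.SolvStruct.QuaternionSylowSection

/-!
Automorphisms of the quaternion group commuting with one of order three modulo the centre are inner.
-/

set_option autoImplicit false
set_option linter.unusedSectionVars false

namespace Cfsg.Lib.GWD

open Cfsg.Lib.SolvStruct.QuaternionSection

/-- Equal modulo the centre. -/
abbrev PMEq (p q : Q8) : Prop := p = q ∨ p = q * (I0 * I0)

set_option maxRecDepth 20000 in
set_option synthInstance.maxSize 4000 in
theorem dec_inner : ∀ k l : Q8, Rel k l → l ∉ ({1, k, k * k, k * k * k} : Finset Q8) → k * k ≠ 1 →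
    ((k = I0 ∧ l = J0) ∨ (∃ q : Q8, k = q * I0 * q⁻¹ ∧ l = q * J0 * q⁻¹) ∨
      (gam k l)^[4] I0 ≠ I0 ∨ (gam k l)^[4] J0 ≠ J0 ∨
      ∀ i j : Q8, Rel i j → j ∉ ({1, i, i * i, i * i * i} : Finset Q8) → i * i ≠ 1 →
        gam i j (gam i j (gam i j I0)) = I0 → gam i j (gam i j (gam i j J0)) = J0 → ¬ (i = I0 ∧ j = J0) →
        ¬ (PMEq (gam k l i) (gam i j k) ∧ PMEq (gam k l j) (gam i j l))) := by
  decide +kernel

theorem dec_gen : ∀ k l : Q8, Rel k l → (∀ p q : Q8, gam k l p = gam k l q → p = q) →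
    l ∉ ({1, k, k * k, k * k * k} : Finset Q8) ∧ k * k ≠ 1 := by
  decide +kernel

theorem rel_of_mulEquiv (f : Q8 ≃* Q8) : Rel (f I0) (f J0) :=
  ⟨by rw [← map_pow, show I0 ^ 4 = 1 by decide, map_one],
    by rw [← map_mul, ← map_mul, show J0 * J0 = I0 * I0 by decide],
    by rw [← map_inv, ← map_inv, ← map_mul, ← map_mul, show J0 * I0 * J0⁻¹ = I0⁻¹ by decide]⟩

/-- An automorphism commuting with one of order three modulo the centre is inner. -/
theorem inner_of_comm (f g : Q8 ≃* Q8) (hg3 : ∀ p, g (g (g p)) = p) (hg : ∃ p, g p ≠ p)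
    {k : ℕ} (hf2 : f ^ 2 ^ k = 1) (hc : ∀ p, PMEq (f (g p)) (g (f p))) : ∃ q : Q8, ∀ p, f p = q * p * q⁻¹ := by
  have hf := hom_eq_gam f (map_mul f)
  have hgg := hom_eq_gam g (map_mul g)
  obtain ⟨h1, h2⟩ := dec_gen _ _ (rel_of_mulEquiv f) (by rw [← hf]; exact fun p q h => f.injective h)
  obtain ⟨h3, h4⟩ := dec_gen _ _ (rel_of_mulEquiv g) (by rw [← hgg]; exact fun p q h => g.injective h)
  have h4f : f ^ 4 = 1 := by
    have h12 : f ^ 12 = 1 := MulEquiv.ext fun p => by
      rw [MulAut.one_apply, show (f ^ 12) p = f^[12] p by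
        rw [show ∀ (n : ℕ), (f ^ n) p = f^[n] p from fun n => by
          induction n with
          | zero => rfl
          | succ n ih => rw [pow_succ', Function.iterate_succ_apply', MulAut.mul_apply, ih]]]
      rw [hf]
      exact (classify _ _ (rel_of_mulEquiv f) (by rw [← hf]; exact fun p q h => f.injective h)).1 p
    refine orderOf_dvd_iff_pow_eq_one.1 ?_
    have := Nat.dvd_gcd (orderOf_dvd_of_pow_eq_one hf2) (orderOf_dvd_of_pow_eq_one h12)
    refine ((Nat.Coprime.dvd_of_dvd_mul_right (n := 3) ?_ (this.trans (Nat.gcd_dvd_right _ _ |>.trans (by norm_num : 12 ∣ 4 * 3)))))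
    exact ((by norm_num : Nat.Coprime 2 3).pow_left k).coprime_dvd_left (orderOf_dvd_of_pow_eq_one hf2)
  have hit : ∀ p, f^[4] p = p := fun p => by
    have := DFunLike.congr_fun h4f p
    rwa [show (f ^ 4) p = f^[4] p from rfl] at this
  obtain ⟨q, hq1, hq2⟩ : ∃ q : Q8, f I0 = q * I0 * q⁻¹ ∧ f J0 = q * J0 * q⁻¹ := by
    rcases dec_inner _ _ (rel_of_mulEquiv f) h1 h2 with ⟨h, h'⟩ | h | h | h | h
    · exact ⟨1, by simp [h], by simp [h']⟩
    · exact h
    · exact absurd (by rw [← hf]; exact hit I0) h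
    · exact absurd (by rw [← hf]; exact hit J0) h
    · refine absurd ⟨?_, ?_⟩ (h _ _ (rel_of_mulEquiv g) h3 h4 (by rw [← hgg]; exact hg3 _)
        (by rw [← hgg]; exact hg3 _) ?_)
      · rintro ⟨e1, e2⟩
        obtain ⟨p, hp⟩ := hg
        refine hp ?_
        rw [congrFun hgg p, e1, e2, ← gam_generators]
      · rw [← hf, ← hgg]; exact hc I0
      · rw [← hf, ← hgg]; exact hc J0
  refine ⟨q, fun p => ?_⟩
  rw [congrFun hf p, hq1, hq2, congrFun (hom_eq_gam (fun p => q * p * q⁻¹) (fun a b => by group)) p]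

end Cfsg.Lib.GWD
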