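import Cfsg.Agent.PGroups.QuasiDihedral
import Cfsg.Agent.Wreathed.Model
import Cfsg.Agent.Wreathed.IsolatedCenter

/-!
Quasi-dihedral and wreathed 2-groups have no quaternion subgroup of order sixteen centralised by all fourth powers.
-/

set_option autoImplicit false
set_option linter.unusedSectionVars false
set_option linter.style.haveILetI false

namespace Cfsg.Lib.GWD

open Subgroup

universe u

theorem no_quaternion_sixteen {S : Type u} [Group S] [Finite S]
    (hS : Cfsg.IsQuasiDihedral S ∨ Cfsg.IsWreathed S) {P : Subgroup S} (hcard : Nat.card P = 16)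
    (huniq : ∀ a b : S, a ∈ P → b ∈ P → orderOf a = 2 → orderOf b = 2 → a = b)
    {y w : S} (hy : y ∈ P) (hw : w ∈ P) (hy8 : orderOf y = 8) (hwy : w * y * w⁻¹ = y⁻¹)
    (h4 : ∀ x : S, Commute (x ^ 4) w ∧ Commute (x ^ 4) y) : False := by
  have hncomm : ¬ Commute w y := fun h => by
    rw [h.eq, mul_inv_cancel_right] at hwy
    have h2 : y ^ 2 = 1 := by rw [pow_two]; nth_rw 2 [hwy]; exact mul_inv_cancel y
    have := Nat.le_of_dvd two_pos (orderOf_dvd_of_pow_eq_one h2)
    omega
  rcases hS with hQ | hW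
  · obtain ⟨m, a, b, h⟩ := Cfsg.Lib.QD.exists_gen hQ
    by_cases hm : m = 3
    · have hS16 : Nat.card S = 16 := by rw [h.2.card, hm]; rfl
      have htop : P = ⊤ := (card_eq_iff_eq_top P).1 (hcard.trans hS16.symm)
      have hb : orderOf b = 2 := by simpa using (Cfsg.Lib.QD.orderOf_b h 0).1 (dvd_zero 2)
      refine h.2.notMem ?_
      rw [huniq b _ (htop ▸ mem_top _) (htop ▸ mem_top _) hb (Cfsg.Lib.QD.orderOf_z h)]
      exact zpow_mem (mem_zpowers a) _
    · have out : ∀ g : S, Commute (a ^ (4 : ℕ)) g → g ∈ zpowers a := by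
        intro g hg
        rcases Cfsg.Lib.CyclicMax.cases h.2 g with ⟨i, rfl⟩ | ⟨i, rfl⟩
        · exact zpow_mem (mem_zpowers a) _
        · exfalso
          have hca : Commute (a ^ (4 : ℕ)) b := by
            have h1 : Commute (a ^ (4 : ℕ)) (a ^ i) := ((Commute.refl a).pow_left 4).zpow_right i
            have h2 := h1.inv_right.mul_right hg
            rwa [inv_mul_cancel_left] at h2
          rcases (Cfsg.Lib.QD.zpow_comm_b_iff h 4).1 (by rw [zpow_ofNat]; exact hca.eq.symm) with h' | h'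
          · rw [zpow_ofNat] at h'
            have := Nat.le_of_dvd (by norm_num) (orderOf_dvd_of_pow_eq_one h')
            rw [h.2.ord] at this
            have := Nat.pow_le_pow_right two_pos (show 4 ≤ m by have := h.1; omega)
            omega
          · have h2 := Cfsg.Lib.QD.orderOf_z h
            rw [← h', zpow_ofNat, orderOf_pow, h.2.ord] at h2
            have h16 : 2 ^ m = 2 ^ 4 * 2 ^ (m - 4) := by rw [← pow_add]; congr 1; have := h.1; omega
            rw [show Nat.gcd (2 ^ m) 4 = 4 from Nat.gcd_eq_right (h16 ▸ Dvd.dvd.mul_right (by norm_num) _)] at h2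
            have := Nat.one_le_two_pow (n := m - 4)
            omega
      obtain ⟨i, hi⟩ := mem_zpowers_iff.1 (out w (h4 a).1)
      obtain ⟨j, hj⟩ := mem_zpowers_iff.1 (out y (h4 a).2)
      exact hncomm (hi ▸ hj ▸ (Commute.refl a).zpow_zpow i j)
  · obtain ⟨n, hn, -, ⟨e⟩⟩ := Cfsg.Lib.Wreathed.exists_equiv hW
    obtain ⟨p, rfl⟩ := e.surjective y
    obtain ⟨q, rfl⟩ := e.surjective w
    rw [MulEquiv.orderOf_eq] at hy8
    have hwy' : q * p * q⁻¹ = p⁻¹ := e.injective (by simpa using hwy)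
    have hncomm' : q * p ≠ p * q := fun h => hncomm (by
      show e q * e p = e p * e q
      rw [← map_mul, h, map_mul])
    have hp4 : p ^ 4 ≠ 1 := fun h => by
      have := Nat.le_of_dvd (by norm_num) (orderOf_dvd_of_pow_eq_one h)
      omega
    rcases p with ⟨a, b, _ | _⟩
    swap
    · refine hp4 ?_
      have hc : (⟨a, b, true⟩ : Cfsg.Lib.Wreathed.Wr n) * ⟨a, b, true⟩ ∈ center (Cfsg.Lib.Wreathed.Wr n) :=
        (Cfsg.Lib.Wreathed.mem_center_iff' hn _).2 ⟨by simp, by simp; ring⟩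
      have h1 := mem_center_iff.1 hc q
      have h2 : q * ((⟨a, b, true⟩ : Cfsg.Lib.Wreathed.Wr n) * ⟨a, b, true⟩) * q⁻¹ =
          (⟨a, b, true⟩ : Cfsg.Lib.Wreathed.Wr n)⁻¹ * (⟨a, b, true⟩ : Cfsg.Lib.Wreathed.Wr n)⁻¹ := by
        rw [← conj_mul, hwy']
      rw [h1, mul_inv_cancel_right, ← _root_.mul_inv_rev] at h2
      rw [show 4 = 2 + 2 from rfl, pow_add, pow_two]
      nth_rw 2 [h2]
      exact mul_inv_cancel _
    rcases q with ⟨c, d, _ | _⟩
    · exact hncomm' (by ext <;> simp <;> ring)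
    by_cases hn3 : n = 2
    · subst hn3
      refine hp4 ?_
      have h44 : ∀ x : ZMod (2 ^ 2), x + x + (x + x) = 0 := by decide
      rw [show 4 = 2 + 2 from rfl, pow_add, pow_two]
      ext <;> simp [h44]
    · have h := (h4 (e ⟨1, 0, false⟩)).1
      rw [← map_pow] at h
      have h' : (⟨1, 0, false⟩ : Cfsg.Lib.Wreathed.Wr n) ^ 4 * ⟨c, d, true⟩ =
          ⟨c, d, true⟩ * (⟨1, 0, false⟩ : Cfsg.Lib.Wreathed.Wr n) ^ 4 :=
        e.injective (by rw [map_mul, map_mul]; exact h.eq)
      rw [show 4 = 2 + 2 from rfl, pow_add, pow_two] at h'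
      have ha := congrArg Cfsg.Lib.Wreathed.Wr.a h'
      simp at ha
      have h40 : ((4 : ℕ) : ZMod (2 ^ n)) = 0 := by push_cast; linear_combination ha
      rw [ZMod.natCast_eq_zero_iff] at h40
      have := Nat.le_of_dvd (by norm_num) h40
      have := Nat.pow_le_pow_right two_pos (show 3 ≤ n by omega)
      omega

end Cfsg.Lib.GWD
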