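import Cfsg.Agent.GWDihedral.Consumers.QGroup.Kernel
import Cfsg.Agent.GWDihedral.Consumers.QGroup.QuatAut
import Cfsg.Agent.GWDihedral.Consumers.QGroup.Shape
import Cfsg.Agent.GWDihedral.Consumers.QGroup.Centre
import Cfsg.Agent.GWDihedral.Consumers.QGroup.Outer
import Cfsg.Agent.GWDihedral.Consumers.QGroup.Action
import Cfsg.Agent.Known.SLPair.Facts
import Cfsg.Agent.Presentations.BinaryIcosahedral

/-!
Groups with quasi-dihedral or wreathed Sylow 2-subgroups and a quaternion kernel of 2-power index.
-/

set_option autoImplicit false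
set_option linter.unusedSectionVars false
set_option linter.style.haveILetI false

namespace Cfsg.Lib.GWD

open Subgroup Cfsg.Lib.GenDihedral
open Cfsg.Lib.SolvStruct.QuaternionSection
open scoped commutatorElement

universe u

variable {H : Type u} [Group H] [Finite H]

/-- Some square in a quasi-dihedral or wreathed 2-group is not central. -/
theorem exists_square_noncentral {S : Type u} [Group S] [Finite S]
    (hS : Cfsg.IsQuasiDihedral S ∨ Cfsg.IsWreathed S) : ∃ x : S, x * x ∉ center S := by
  rcases hS with hQ | hW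
  · obtain ⟨m, a, b, h⟩ := Cfsg.Lib.QD.exists_gen hQ
    refine ⟨a, fun hc => ?_⟩
    have hb : b * a ^ (2 : ℤ) = a ^ (2 : ℤ) * b := by
      rw [zpow_ofNat, pow_two]; exact mem_center_iff.1 hc b
    have h4 : a ^ 4 = 1 := by
      rcases (Cfsg.Lib.QD.zpow_comm_b_iff h 2).1 hb with h' | h'
      · rw [zpow_ofNat] at h'
        rw [show 4 = 2 * 2 from rfl, pow_mul, h', one_pow]
      · have hz := pow_orderOf_eq_one (a ^ ((2 : ℤ) ^ (m - 1)))
        rw [Cfsg.Lib.QD.orderOf_z h, ← h', zpow_ofNat, ← pow_mul] at hz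
        exact hz
    have h8 := Nat.le_of_dvd (by norm_num) (orderOf_dvd_of_pow_eq_one h4)
    rw [h.2.ord] at h8
    have := Nat.pow_le_pow_right two_pos h.1
    omega
  · obtain ⟨n, hn, -, ⟨e⟩⟩ := Cfsg.Lib.Wreathed.exists_equiv hW
    refine ⟨e ⟨1, 0, false⟩, fun hc => ?_⟩
    have hc' : (⟨1, 0, false⟩ : Cfsg.Lib.Wreathed.Wr n) * ⟨1, 0, false⟩ ∈ center _ := mem_center_iff.2 fun w =>
      e.injective (by rw [map_mul e w, map_mul e _ w, map_mul]; exact mem_center_iff.1 hc (e w))
    have h2 := ((Cfsg.Lib.Wreathed.mem_center_iff' hn _).1 hc').2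
    simp at h2
    have h20 : ((2 : ℕ) : ZMod (2 ^ n)) = 0 := by push_cast; linear_combination h2
    rw [ZMod.natCast_eq_zero_iff] at h20
    have := Nat.le_of_dvd two_pos h20
    have := Nat.pow_le_pow_right two_pos hn
    omega

/-- A subgroup's order divides the order of its intersection with a normal subgroup times the index. -/
theorem card_dvd_inf_mul_index (K L : Subgroup H) [K.Normal] :
    Nat.card L ∣ Nat.card (L.subgroupOf K) * K.index := by
  rw [← (K.subgroupOf L).card_mul_index,
    show Nat.card (K.subgroupOf L) = Nat.card (L.subgroupOf K) by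
      rw [← card_map_of_injective L.subtype_injective, ← card_map_of_injective K.subtype_injective,
        subgroupOf_map_subtype, subgroupOf_map_subtype, inf_comm]]
  exact mul_dvd_mul_left _ (relIndex_dvd_index_of_normal K L)

theorem dec_pm : ∀ t p : Q8, PMEq (t * p * t⁻¹) p := by decide +kernel

theorem dec_sq : ∀ q g : Q8, g * (q * q) = q * q * g := by decide +kernel

theorem dec_xa {m : ℕ} (hm : m = 4) :
    (QuaternionGroup.xa 0 : QuaternionGroup m) * QuaternionGroup.a 1 * (QuaternionGroup.xa 0)⁻¹ =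
      (QuaternionGroup.a 1)⁻¹ := by
  subst hm; decide

theorem sl_solvable_three {F : Type} [Field F] [Fintype F] (h : Fintype.card F = 3) :
    Nat.card (Matrix.SpecialLinearGroup (Fin 2) F) = 24 := by
  rw [Cfsg.SLPair.card_sl, h]; rfl

section

variable (hD : DihedralProp.{u}) (S : Sylow 2 H)
  (hS : Cfsg.IsQuasiDihedral (S : Subgroup H) ∨ Cfsg.IsWreathed (S : Subgroup H))
  (hO : Cfsg.oddCore H = ⊥) (hZc : ∀ z ∈ (center (S : Subgroup H)).map (S : Subgroup H).subtype, z ∈ center H)
  (K : Subgroup H) [K.Normal] {a : ℕ} (hKa : K.index = 2 ^ a) (hKidx : ∀ M : Subgroup K, M.index ≠ 2)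
  (hKQ : ∀ P : Sylow 2 K, ∃ m : ℕ, 1 ≤ m ∧ Nonempty ((P : Subgroup K) ≃* QuaternionGroup (2 ^ m)))

include hKa in
theorem solvable_quot : Group.IsSolvable (H ⧸ K) := by
  haveI : Fact (Nat.Prime 2) := ⟨Nat.prime_two⟩
  haveI : Group.IsNilpotent (H ⧸ K) :=
    (IsPGroup.of_card (p := 2) (n := a) (by rw [← index_eq_card, hKa])).isNilpotent
  infer_instance

include hKa in
/-- The commutators modulo `K`, from the Sylow 2-subgroup. -/
theorem commutator_le_kernel (hS : Cfsg.IsQuasiDihedral (S : Subgroup H) ∨ Cfsg.IsWreathed (S : Subgroup H))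
    (hP : ∃ g ∈ (S : Subgroup H) ⊓ K, ∃ h ∈ (S : Subgroup H) ⊓ K, g * h ≠ h * g) : commutator H ≤ K := by
  haveI : Fact (Nat.Prime 2) := ⟨Nat.prime_two⟩
  set π := QuotientGroup.mk' K
  have hrep : ∀ x : H ⧸ K, ∃ s ∈ (S : Subgroup H), π s = x := by
    intro x
    have htop : (S : Subgroup H).map π = ⊤ := by
      have h := (S.mapSurjective (QuotientGroup.mk'_surjective K))
      refine index_eq_one.1 (Nat.eq_one_of_dvd_coprimes (a := ((S : Subgroup H).map π).index) (b := 2 ^ a) ?_ dvd_rfl ?_)
      · exact (Nat.Coprime.pow_right a ((Nat.prime_two.coprime_iff_not_dvd).2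
          (S.mapSurjective (QuotientGroup.mk'_surjective K)).not_dvd_index).symm)
      · exact (index_dvd_card _).trans (by rw [← index_eq_card, hKa])
    exact htop.ge (mem_top x)
  rw [_root_.commutator_def, commutator_le]
  intro x _ y _
  obtain ⟨s, hs, hsx⟩ := hrep (π x)
  obtain ⟨t, ht, hty⟩ := hrep (π y)
  refine (QuotientGroup.eq_one_iff _).1 ?_
  show π ⁅x, y⁆ = 1
  rw [map_commutatorElement, ← hsx, ← hty, ← map_commutatorElement]
  refine (QuotientGroup.eq_one_iff _).2 ?_
  obtain ⟨g, hg, h, hh, hgh⟩ := hP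
  haveI : (((S : Subgroup H) ⊓ K).subgroupOf (S : Subgroup H)).Normal := by rw [inf_subgroupOf_left]; infer_instance
  have := commutator_mem hS (((S : Subgroup H) ⊓ K).subgroupOf (S : Subgroup H))
    (hP := ⟨⟨g, hg.1⟩, hg, ⟨h, hh.1⟩, hh, fun e => hgh (congrArg Subtype.val e)⟩) ⟨s, hs⟩ ⟨t, ht⟩
  exact (mem_subgroupOf.1 this).2

include hD hS hO hZc hKa hKidx hKQ

/-- The normal `SL(2, q)` is the derived subgroup, and the only normal subgroup of that kind. -/
theorem qgroup : ∃ L₀ : Subgroup H, L₀.Normal ∧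
    (∃ (F : Type) (_ : Field F) (_ : Fintype F), Odd (Fintype.card F) ∧
      Nonempty (L₀ ≃* Matrix.SpecialLinearGroup (Fin 2) F)) ∧
    commutator H = L₀ ∧
    ∀ L₁ : Subgroup H, L₁.Normal → (∃ (F : Type) (_ : Field F) (_ : Fintype F), Odd (Fintype.card F) ∧
      Nonempty (L₁ ≃* Matrix.SpecialLinearGroup (Fin 2) F)) → L₁ = L₀ := by
  haveI : Fact (Nat.Prime 2) := ⟨Nat.prime_two⟩
  haveI : Fact (Nat.Prime 3) := ⟨Nat.prime_three⟩
  haveI := solvable_quot K hKa
  have hOH : NoOdd H := fun M hM ho => le_bot_iff.1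
    (hO ▸ @Cfsg.Lib.Components.le_pPrimeCore _ _ 2 M hM (Nat.coprime_two_right.2 ho))
  have hOK : NoOdd K := noOdd_sub hOH K
  obtain ⟨T, hT⟩ := sylow_of_inter S K
  obtain ⟨m, hm, ⟨eT⟩⟩ := hKQ T
  obtain ⟨n, rfl⟩ : ∃ n, m = n + 1 := ⟨m - 1, by omega⟩
  set P := (S : Subgroup H) ⊓ K with hP
  let emb : QuaternionGroup (2 ^ (n + 1)) →* H :=
    K.subtype.comp ((T : Subgroup K).subtype.comp eT.symm.toMonoidHom)
  have hembi : Function.Injective emb :=
    K.subtype_injective.comp ((T : Subgroup K).subtype_injective.comp eT.symm.injective)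
  have hembP : ∀ q, emb q ∈ P := fun q => hT ▸ mem_map_of_mem K.subtype (eT.symm q).2
  have hembS : ∀ x ∈ P, ∃ q, emb q = x := fun x hx => by
    obtain ⟨y, hy, rfl⟩ := hT.ge hx
    exact ⟨eT ⟨y, hy⟩, by simp [emb]⟩
  have hPnc : ∃ g ∈ P, ∃ h ∈ P, g * h ≠ h * g := by
    refine ⟨emb (.a 1), hembP _, emb (.xa 0), hembP _, fun e => ?_⟩
    rw [← map_mul, ← map_mul, hembi.eq_iff, QuaternionGroup.a_mul_xa, QuaternionGroup.xa_mul_a,
      QuaternionGroup.xa.injEq] at e
    have h2 : ((2 : ℕ) : ZMod (2 * 2 ^ (n + 1))) = 0 := by push_cast; linear_combination -e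
    rw [ZMod.natCast_eq_zero_iff] at h2
    have := Nat.le_of_dvd two_pos h2
    have := Nat.one_le_two_pow (n := n)
    have h3 := pow_succ 2 n
    omega
  have hcs : ∀ c : (S : Subgroup H), (∀ g ∈ P, (c : H) * g = g * c) → (c : H) ∈ center H := by
    intro c hc
    refine hZc _ (mem_map_of_mem _ (mem_center_of_comm hS (P := P.subgroupOf (S : Subgroup H)) ?_
      fun g hg => Subtype.ext (hc g hg)))
    obtain ⟨g, hg, h, hh, hgh⟩ := hPnc
    exact ⟨⟨g, hg.1⟩, hg, ⟨h, hh.1⟩, hh, fun e => hgh (congrArg Subtype.val e)⟩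
  have hperfK : ∀ X : Subgroup H, ⁅X, X⁆ = X → X ≤ K := fun X hX =>
    (perfect_le_ker (QuotientGroup.mk' K) hX).trans (QuotientGroup.ker_mk' K).le
  have hslperf : ∀ (X : Subgroup H) (F : Type) [Field F] [Fintype F], 4 ≤ Fintype.card F →
      (X ≃* Matrix.SpecialLinearGroup (Fin 2) F) → ⁅X, X⁆ = X := by
    intro X F _ _ h4 e
    have h := map_perfect (Cfsg.Lib.Known.sl2_commutator_eq_top F h4) (X.subtype.comp e.symm.toMonoidHom)
    have hr : (X.subtype.comp e.symm.toMonoidHom).range = X := by
      ext y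
      exact ⟨fun ⟨g, hg⟩ => hg ▸ (e.symm g).2, fun hy => ⟨e ⟨y, hy⟩, by simp⟩⟩
    rwa [hr] at h
  by_cases hs : Group.IsSolvable K
  · obtain ⟨hK24, hTn, rfl, ⟨e₀⟩⟩ := quaternion_kernel_solvable hOK hKidx T n eT hs
    haveI := hTn
    have h3nonperf : ∀ X : Subgroup H, ⁅X, X⁆ = X → X = ⊥ := fun X hX => by
      have hle := hperfK X hX
      haveI := hs
      have := perfect_le_ker (MonoidHom.id K) (subgroupOf_perfect hle hX)
      rw [(MonoidHom.ker_eq_bot_iff _).2 Function.injective_id, le_bot_iff, subgroupOf_eq_bot] at this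
      exact this.eq_bot_of_le hle
    -- normal subgroups meeting `K` in order divisible by three
    have hthree : ∀ N : Subgroup H, N.Normal → 3 ∣ Nat.card (N.subgroupOf K) → K ≤ N := by
      intro N hN h3
      set M := N.subgroupOf K
      haveI : M.Normal := inferInstance
      have hd : M.index ∣ 8 := by
        have h := M.card_mul_index
        rw [hK24] at h
        obtain ⟨c, hc⟩ := h3
        rw [hc] at h
        exact ⟨c, by linarith⟩
      obtain ⟨j, -, hj⟩ := (Nat.dvd_prime_pow Nat.prime_two).1 (show M.index ∣ 2 ^ 3 from hd)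
      rcases j with _ | j
      · exact subgroupOf_eq_top.1 (index_eq_one.1 hj)
      · exfalso
        obtain ⟨L, hL⟩ := Sylow.exists_subgroup_card_pow_prime (G := K ⧸ M) 2 (n := j)
          (by rw [← index_eq_card, hj]; exact pow_dvd_pow 2 (Nat.le_succ j))
        refine hKidx (L.comap (QuotientGroup.mk' M)) ?_
        rw [index_comap_of_surjective _ (QuotientGroup.mk'_surjective M)]
        have h := L.card_mul_index
        rw [hL, ← index_eq_card, hj, pow_succ] at h
        exact Nat.eq_of_mul_eq_mul_left (Nat.two_pow_pos j) h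
    refine ⟨K, inferInstance, ⟨ZMod 3, inferInstance, inferInstance, by rw [ZMod.card]; decide, ⟨e₀⟩⟩,
      le_antisymm (commutator_le_kernel S K hKa hS hPnc) ?_, fun L₁ hL₁ ⟨F', iF, jF, hF', ⟨e₁⟩⟩ => ?_⟩
    · by_contra hle
      set N := commutator H
      have hN3 : ¬ 3 ∣ Nat.card (N.subgroupOf K) := fun h => hle (hthree N inferInstance h)
      have hNT : N.subgroupOf K ≤ (T : Subgroup K) := by
        refine fun x hx => Cfsg.Lib.CyclicInter.mem_of_normal ?_ T hx
        have hd := card_subgroup_dvd_card (N.subgroupOf K)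
        rw [hK24] at hd
        have : Nat.card (N.subgroupOf K) ∣ 2 ^ 3 :=
          ((Nat.prime_three.coprime_iff_not_dvd).2 hN3).symm.dvd_of_dvd_mul_right (show _ ∣ 2 ^ 3 * 3 from hd)
        obtain ⟨j, -, hj⟩ := (Nat.dvd_prime_pow Nat.prime_two).1 this
        exact IsPGroup.of_card hj
      obtain ⟨y, hy⟩ := exists_prime_orderOf_dvd_card' (G := K) 3 (by rw [hK24]; norm_num)
      -- conjugation on the quaternion group
      have hnormQ : ∀ h : H, ∀ q, ∃ q', emb q' = h * emb q * h⁻¹ := by
        intro h q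
        haveI : ((T : Subgroup K).map K.subtype).Normal := by
          haveI : (T : Subgroup K).Characteristic := Sylow.characteristic_of_normal T hTn
          infer_instance
        exact hembS _ (hT ▸ (inferInstance : ((T : Subgroup K).map K.subtype).Normal).conj_mem _
          (hT.ge (hembP q)) h)
      choose c hc using hnormQ
      have cmul : ∀ h p q, c h (p * q) = c h p * c h q := fun h p q => hembi (by
        rw [hc, map_mul, map_mul, hc, hc, _root_.conj_mul])
      have cinv : ∀ h q, c h⁻¹ (c h q) = q := fun h q => hembi (by rw [hc, hc]; group)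
      let aut : H →* MulAut Q8 :=
        { toFun := fun h =>
            { toFun := c h, invFun := c h⁻¹, left_inv := cinv h,
              right_inv := fun q => by simpa using cinv h⁻¹ q, map_mul' := cmul h }
          map_one' := MulEquiv.ext fun q => hembi (by show emb (c 1 q) = emb q; rw [hc]; group)
          map_mul' := fun g h => MulEquiv.ext fun q => hembi (by
            show emb (c (g * h) q) = emb (c g (c h q)); rw [hc, hc, hc]; group) }
      have haut : ∀ h q, emb (aut h q) = h * emb q * h⁻¹ := fun h q => hc h q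
      have hg3 : ∀ p, aut y (aut y (aut y p)) = p := fun p => by
        have : (aut (y : H)) ^ 3 = 1 := by rw [← map_pow, ← SubmonoidClass.coe_pow, ← hy, pow_orderOf_eq_one, coe_one, map_one]
        exact DFunLike.congr_fun this p
      have hg : ∃ p, aut y p ≠ p := by
        by_contra h
        push Not at h
        have hTc : (T : Subgroup K) ≤ centralizer ({y} : Set K) := fun z hz => GenDihedral.mem_cent.2 (Subtype.ext (by
          have := congrArg emb (h (eT ⟨z, hz⟩))
          rw [haut] at this
          simp [emb] at this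
          exact (mul_inv_eq_iff_eq_mul.1 this).symm))
        have h24 : 24 ∣ Nat.card (centralizer ({y} : Set K)) := by
          refine Nat.Coprime.mul_dvd_of_dvd_of_dvd (show Nat.Coprime 8 3 by norm_num) ?_ ?_
          · have : Nat.card (T : Subgroup K) = 8 := by
              rw [Nat.card_congr eT.toEquiv, Nat.card_eq_fintype_card (α := QuaternionGroup (2 ^ (0 + 1))),
                QuaternionGroup.card]
              rfl
            exact this ▸ card_dvd_of_le hTc
          · exact hy ▸ Subgroup.orderOf_dvd_natCard _ (GenDihedral.mem_cent.2 rfl)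
        have htop := (card_eq_iff_eq_top _).1 (Nat.dvd_antisymm (card_subgroup_dvd_card _) (hK24 ▸ h24))
        have hyZ : y ∈ center K := mem_center_iff.2 fun z => GenDihedral.mem_cent.1 (htop.ge (mem_top z))
        have := Subgroup.orderOf_dvd_natCard _ hyZ
        rw [hy, (quaternion_quot T 0 eT hOK).1] at this
        norm_num at this
      -- every square of `S` is central
      obtain ⟨x, hx⟩ := exists_square_noncentral hS
      refine hx ?_
      obtain ⟨k, hk⟩ := S.2 x
      have hf2 : (aut (x : H)) ^ 2 ^ k = 1 := by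
        rw [← map_pow, ← SubmonoidClass.coe_pow, hk, coe_one, map_one]
      have ht : ⁅(x : H), (y : H)⁆ ∈ (N.subgroupOf K).map K.subtype := by
        refine ⟨⟨_, ?_⟩, mem_subgroupOf.2 (commutator_mem_commutator (mem_top _) (mem_top _)), rfl⟩
        have := mul_mem ((inferInstance : K.Normal).conj_mem _ y.2 (x : H)) (inv_mem y.2)
        simpa [commutatorElement_def, mul_assoc] using this
      obtain ⟨t, ht', hte⟩ := ht
      obtain ⟨t', htt⟩ : ∃ t', emb t' = ⁅(x : H), (y : H)⁆ :=
        hembS _ (hT ▸ hte ▸ mem_map_of_mem K.subtype (hNT ht'))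
      have hcm : ∀ p, PMEq (aut x (aut y p)) (aut y (aut x p)) := by
        intro p
        have : aut x (aut y p) = t' * aut y (aut x p) * t'⁻¹ := hembi (by
          rw [map_mul, map_mul, map_inv, htt, haut, haut, haut, haut, commutatorElement_def]; group)
        rw [this]
        exact dec_pm t' _
      obtain ⟨q, hq⟩ := inner_of_comm (aut (x : H)) (aut (y : H)) hg3 hg hf2 hcm
      have hcS : (emb q)⁻¹ * (x : H) ∈ (S : Subgroup H) := mul_mem (inv_mem (hembP q).1) x.2
      have hcen : (emb q)⁻¹ * (x : H) ∈ center H := by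
        refine hcs ⟨_, hcS⟩ fun g hg' => ?_
        obtain ⟨p, rfl⟩ := hembS g hg'
        have h1 : (x : H) * emb p * (x : H)⁻¹ = emb q * emb p * (emb q)⁻¹ := by
          rw [← haut, hq, map_mul, map_mul, map_inv]
        show (emb q)⁻¹ * (x : H) * emb p = emb p * ((emb q)⁻¹ * (x : H))
        calc (emb q)⁻¹ * (x : H) * emb p = (emb q)⁻¹ * ((x : H) * emb p * (x : H)⁻¹) * x := by group
          _ = _ := by rw [h1]; group
      have hq2 : q * q ∈ center Q8 := mem_center_iff.2 (dec_sq q)
      have hqc : emb q * emb q ∈ center H := by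
        refine hcs ⟨_, mul_mem (hembP q).1 (hembP q).1⟩ fun g hg' => ?_
        obtain ⟨p, rfl⟩ := hembS g hg'
        show emb q * emb q * emb p = emb p * (emb q * emb q)
        rw [← map_mul, ← map_mul, ← map_mul, mem_center_iff.1 hq2 p]
      have hxx : (x : H) * x ∈ center H := by
        set d := (emb q)⁻¹ * (x : H) with hd
        have e : (x : H) * x = emb q * emb q * (d * d) := by
          have := mem_center_iff.1 hcen (emb q)
          calc (x : H) * x = emb q * d * (emb q * d) := by rw [hd]; group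
            _ = emb q * (d * emb q) * d := by group
            _ = emb q * (emb q * d) * d := by rw [← this]
            _ = _ := by group
        rw [e]
        exact mul_mem hqc (mul_mem hcen hcen)
      exact mem_center_iff.2 fun g => Subtype.ext (mem_center_iff.1 hxx g)
    · haveI := hL₁
      rcases le_or_gt 4 (Fintype.card F') with h4 | h4
      · exfalso
        have := h3nonperf L₁ (hslperf L₁ F' h4 e₁)
        have hc := Nat.card_congr e₁.toEquiv
        rw [this, card_bot, Cfsg.SLPair.card_sl] at hc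
        have h16 := Nat.pow_le_pow_left h4 2
        nlinarith [Nat.sub_add_cancel (show 1 ≤ Fintype.card F' ^ 2 by omega)]
      · have h3 : Fintype.card F' = 3 := by
          have := Fintype.one_lt_card (α := F')
          obtain ⟨r, hr⟩ := hF'
          omega
        have hc24 : Nat.card L₁ = 24 := (Nat.card_congr e₁.toEquiv).trans (sl_solvable_three h3)
        have hKL : K ≤ L₁ := by
          refine hthree L₁ hL₁ ?_
          have hdiv : Nat.card L₁ ∣ Nat.card (L₁.subgroupOf K) * 2 ^ a := by
            exact hKa ▸ card_dvd_inf_mul_index K L₁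
          exact (Nat.Coprime.pow_right a (show Nat.Coprime 3 2 by norm_num)).dvd_of_dvd_mul_right
            ((show 3 ∣ Nat.card L₁ by rw [hc24]; norm_num).trans hdiv)
        exact (Subgroup.eq_of_le_of_card_ge hKL (hc24.trans_le hK24.ge)).symm
  · obtain ⟨L, hLn, hLodd, -, hLperf, hLsimp, hsolvN, hshape⟩ := quaternion_kernel hD hOK hKidx T n eT hs
    haveI := hLn
    set L₀ := L.map K.subtype with hL₀
    let eL : ↥L ≃* ↥L₀ := L.equivMapOfInjective _ K.subtype_injective
    have hperf₀ : commutator ↥L₀ = ⊤ := by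
      rw [_root_.commutator_def, ← map_top_of_surjective eL.toMonoidHom eL.surjective, ← map_commutator,
        ← _root_.commutator_def, hLperf]
    have hbr : ⁅L₀, L₀⁆ = L₀ := by
      conv_rhs => rw [← L₀.range_subtype, MonoidHom.range_eq_map, ← hperf₀, _root_.commutator_def, map_commutator,
        ← MonoidHom.range_eq_map, L₀.range_subtype]
    have hmax : ∀ X : Subgroup H, ⁅X, X⁆ = X → X ≤ L₀ := by
      intro X hX
      have hle := hperfK X hX
      haveI : Group.IsSolvable (K ⧸ L) := Cfsg.Agent.PF.isSolvable_of_odd _ (by rwa [← index_eq_card])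
      have h := perfect_le_ker (QuotientGroup.mk' L) (subgroupOf_perfect hle hX)
      rw [QuotientGroup.ker_mk'] at h
      intro x hx
      exact ⟨⟨x, hle hx⟩, h (mem_subgroupOf.2 hx), rfl⟩
    haveI hL₀n : L₀.Normal := ⟨fun x hx g => by
      have := hmax (L₀.map (MulAut.conj g).toMonoidHom) (by rw [← map_commutator, hbr])
      exact this ⟨x, hx, rfl⟩⟩
    have hPL : P ≤ L₀ := by
      intro x hx
      obtain ⟨y, hy, rfl⟩ := hT.ge hx
      refine ⟨y, ?_, rfl⟩
      refine (QuotientGroup.eq_one_iff y).1 (orderOf_eq_one_iff.1 ?_)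
      obtain ⟨j, hj⟩ := IsPGroup.iff_orderOf.1 T.2 ⟨y, hy⟩
      rw [Subgroup.orderOf_mk] at hj
      refine Nat.eq_one_of_dvd_coprimes ((Nat.coprime_two_left.2 hLodd).pow_left j) ?_ ?_
      · exact hj ▸ orderOf_map_dvd (QuotientGroup.mk' L) y
      · rw [index_eq_card]; exact orderOf_dvd_natCard _
    set C := centralizer (L₀ : Set H) with hCdef
    haveI hCn : C.Normal := inferInstance
    have hCS : C ≤ (S : Subgroup H) ∧ C ≤ center H := by
      obtain ⟨U, hU⟩ := sylow_of_inter S C
      have hUc : ∀ u ∈ (U : Subgroup C), (u : H) ∈ center H := by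
        intro u hu
        have hmem : (u : H) ∈ (S : Subgroup H) ⊓ C := hU ▸ mem_map_of_mem C.subtype hu
        exact hcs ⟨_, hmem.1⟩ fun g hg => (mem_centralizer_iff.1 hmem.2 g (hPL hg)).symm
      have hnc : normalizer ((U : Subgroup C) : Set C) ≤ centralizer ((U : Subgroup C) : Set C) := fun x _ =>
        mem_centralizer_iff.2 fun u hu => Subtype.ext ((mem_center_iff.1 (hUc u hu) x).symm)
      have hcompl := MonoidHom.ker_transferSylow_isComplement' U hnc
      set N := (MonoidHom.transferSylow U hnc).ker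
      have hN : N = ⊥ := by
        refine noOdd_sub hOH C N inferInstance ?_
        refine Nat.not_even_iff_odd.1 fun h => U.not_dvd_index ?_
        rw [hcompl.index_eq_card]
        exact h.two_dvd
      have htop : (U : Subgroup C) = ⊤ := by
        rw [hN] at hcompl
        exact isComplement'_bot_left.1 hcompl
      refine ⟨fun c hc => ?_, fun c hc => hUc ⟨c, hc⟩ (htop ▸ mem_top _)⟩
      exact (hU ▸ mem_map_of_mem C.subtype (htop ▸ mem_top (⟨c, hc⟩ : C)) : c ∈ (S : Subgroup H) ⊓ C).1
    have hmapc : (center ↥L).map eL.toMonoidHom = center ↥L₀ := by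
      ext z
      rw [Subgroup.mem_map_equiv, mem_center_iff, mem_center_iff]
      exact ⟨fun h g => eL.symm.injective (by rw [map_mul, map_mul, h]),
        fun h g => eL.injective (by rw [map_mul, map_mul, eL.apply_symm_apply, h])⟩
    let eC : ↥L ⧸ center ↥L ≃* ↥L₀ ⧸ center ↥L₀ := QuotientGroup.congr _ _ eL hmapc
    rcases hshape with ⟨F, iF, jF, hF, h5, ⟨f⟩, ⟨fQ⟩⟩ | ⟨hcard, ⟨fQ⟩⟩
    swap
    · exfalso
      obtain ⟨ψ, hker, -⟩ := exists_action L₀ hperf₀ (eC.symm.trans fQ)
      have hn1 : n = 1 := by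
        have hT' : Nat.card (T : Subgroup K) = 4 * 2 ^ (n + 1) := by
          rw [Nat.card_congr eT.toEquiv, Nat.card_eq_fintype_card (α := QuaternionGroup (2 ^ (n + 1))),
            QuaternionGroup.card]
        have h1 := (T : Subgroup K).card_mul_index
        rw [hT', ← L.card_mul_index, hcard] at h1
        have hTi : Odd (T : Subgroup K).index := Nat.not_even_iff_odd.1 fun h => T.not_dvd_index h.two_dvd
        have hA : 2 ^ (n + 3) ∣ 2 ^ 4 := by
          refine ((Nat.coprime_two_left.2 ((show Odd 315 by decide).mul hLodd)).pow_left (n + 3)).dvd_of_dvd_mul_right ?_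
          exact ⟨(T : Subgroup K).index, by ring_nf at h1 ⊢; linarith⟩
        have hB : 2 ^ 4 ∣ 2 ^ (n + 3) := by
          refine ((Nat.coprime_two_left.2 hTi).pow_left 4).dvd_of_dvd_mul_right ?_
          exact ⟨315 * L.index, by ring_nf at h1 ⊢; linarith⟩
        have := Nat.pow_right_injective le_rfl (Nat.dvd_antisymm hA hB)
        omega
      subst hn1
      refine no_quaternion_sixteen hS (P := P.subgroupOf (S : Subgroup H))
        (y := ⟨emb (.a 1), (hembP _).1⟩) (w := ⟨emb (.xa 0), (hembP _).1⟩) ?_ ?_ (hembP _) (hembP _) ?_ ?_ ?_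
      · rw [Nat.card_congr (subgroupOfEquivOfLe (inf_le_left : P ≤ (S : Subgroup H))).toEquiv, ← hP, ← hT,
          card_map_of_injective K.subtype_injective, Nat.card_congr eT.toEquiv,
          Nat.card_eq_fintype_card (α := QuaternionGroup (2 ^ (1 + 1))), QuaternionGroup.card]
        rfl
      · intro g h hg hh hg2 hh2
        obtain ⟨p, hp⟩ := hembS _ hg
        obtain ⟨q, hq⟩ := hembS _ hh
        have h1 : Nat.card {x : QuaternionGroup (2 ^ (1 + 1)) // orderOf x = 2} = 1 := Cfsg.Agent.S0218.result 1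
        haveI := (Nat.card_eq_one_iff_unique.1 h1).1
        have := congrArg Subtype.val (Subsingleton.elim
          (⟨p, by rw [← orderOf_injective emb hembi, hp]; exact (orderOf_coe g).trans hg2⟩ :
            {x : QuaternionGroup (2 ^ (1 + 1)) // orderOf x = 2})
          ⟨q, by rw [← orderOf_injective emb hembi, hq]; exact (orderOf_coe h).trans hh2⟩)
        exact Subtype.ext ((hp.symm.trans (congrArg emb this)).trans hq)
      · rw [Subgroup.orderOf_mk, orderOf_injective emb hembi, QuaternionGroup.orderOf_a_one]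
        rfl
      · refine Subtype.ext ?_
        show emb (.xa 0) * emb (.a 1) * (emb (.xa 0))⁻¹ = (emb (.a 1))⁻¹
        rw [← map_inv, ← map_inv, ← map_mul, ← map_mul, dec_xa (by norm_num)]
      · intro x
        have hx4 : (x : H) ^ 4 ∈ center H := by
          refine hCS.2 (hker.le ?_)
          obtain ⟨k, hk⟩ := S.2 x
          rw [MonoidHom.mem_ker, map_pow]
          exact aut_alt_seven_pow_four (k := k) (by
            rw [← map_pow, ← SubmonoidClass.coe_pow, hk, coe_one, map_one])
        exact ⟨Subtype.ext (mem_center_iff.1 hx4 _).symm, Subtype.ext (mem_center_iff.1 hx4 _).symm⟩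
    obtain ⟨ψ, hker, hinn⟩ := exists_action L₀ hperf₀ (eC.symm.trans fQ)
    refine ⟨L₀, hL₀n, ⟨F, iF, jF, hF, ⟨eL.symm.trans f⟩⟩, le_antisymm ?_ ?_,
      fun L₁ hL₁ ⟨F', iF', jF', hF', ⟨e₁⟩⟩ => ?_⟩
    · -- the quotient by `L₀` is abelian
      set π := QuotientGroup.mk' L₀
      set TQ := S.mapSurjective (QuotientGroup.mk'_surjective L₀)
      have hTQ : ∀ a ∈ (TQ : Subgroup (H ⧸ L₀)), ∀ b ∈ (TQ : Subgroup (H ⧸ L₀)), a * b = b * a := by
        rintro _ ⟨s, hs, rfl⟩ _ ⟨t, ht, rfl⟩
        obtain ⟨g, hg, h, hh, hgh⟩ := hPnc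
        haveI : (((S : Subgroup H) ⊓ L₀).subgroupOf (S : Subgroup H)).Normal := by rw [inf_subgroupOf_left]; infer_instance
        have := commutator_mem hS (((S : Subgroup H) ⊓ L₀).subgroupOf (S : Subgroup H))
          ⟨⟨g, hg.1⟩, ⟨hg.1, hPL hg⟩, ⟨h, hh.1⟩, ⟨hh.1, hPL hh⟩, fun e => hgh (congrArg Subtype.val e)⟩
          ⟨s, hs⟩ ⟨t, ht⟩
        rw [← map_mul, ← map_mul]
        refine commutatorElement_eq_one_iff_mul_comm.1 ?_ |> (fun e : π s * π t = π t * π s => by
          rw [map_mul, map_mul]; exact e)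
        rw [← map_commutatorElement]
        exact (QuotientGroup.eq_one_iff _).2 (mem_subgroupOf.1 this).2
      have hcen : ∀ x y : H ⧸ L₀, ⁅x, y⁆ ∈ center (H ⧸ L₀) ⊓ (TQ : Subgroup (H ⧸ L₀)) := by
        intro x y
        obtain ⟨x, rfl⟩ := QuotientGroup.mk'_surjective L₀ x
        obtain ⟨y, rfl⟩ := QuotientGroup.mk'_surjective L₀ y
        obtain ⟨m, hm⟩ := Outer.commutator_inner (ψ x) (ψ y)
        obtain ⟨l, hl, hlm⟩ := hinn m
        have hc : l⁻¹ * ⁅x, y⁆ ∈ C := hker.le (by
          rw [MonoidHom.mem_ker, map_mul, map_inv, hlm, map_commutatorElement, hm, inv_mul_cancel])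
        have e : π ⁅x, y⁆ = π (l⁻¹ * ⁅x, y⁆) := by
          rw [map_mul, map_inv, show π l = 1 from (QuotientGroup.eq_one_iff _).2 hl, inv_one, one_mul]
        rw [← map_commutatorElement, e]
        refine ⟨mem_center_iff.2 fun z => ?_, mem_map_of_mem π (hCS.1 hc)⟩
        obtain ⟨z, rfl⟩ := QuotientGroup.mk'_surjective L₀ z
        rw [← map_mul, ← map_mul, mem_center_iff.1 (hCS.2 hc) z]
      have hab := comm_of_central_commutators (TQ : Subgroup (H ⧸ L₀))
        (Nat.not_even_iff_odd.1 fun h => TQ.not_dvd_index h.two_dvd) TQ.2 hTQ hcen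
      rw [_root_.commutator_def, commutator_le]
      intro x _ y _
      refine (QuotientGroup.eq_one_iff _).1 ?_
      show π ⁅x, y⁆ = 1
      rw [map_commutatorElement, commutatorElement_eq_one_iff_mul_comm]
      exact hab _ _
    · conv_lhs => rw [← hbr]
      rw [_root_.commutator_def]
      exact commutator_mono le_top le_top
    · haveI := hL₁
      rcases le_or_gt 4 (Fintype.card F') with h4 | h4
      · have hp₁ := hslperf L₁ F' h4 e₁
        have hle := hmax L₁ hp₁
        refine le_antisymm hle ?_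
        -- a perfect normal subgroup of a quasisimple group
        set N := L₁.subgroupOf L₀
        haveI : N.Normal := inferInstance
        have hNp : ⁅N, N⁆ = N := subgroupOf_perfect hle hp₁
        haveI : IsSimpleGroup (↥L₀ ⧸ center ↥L₀) := by
          haveI := hLsimp
          haveI : Nontrivial (↥L₀ ⧸ center ↥L₀) := eC.symm.toEquiv.nontrivial
          exact IsSimpleGroup.isSimpleGroup_of_surjective eC.toMonoidHom eC.surjective
        haveI hi : (N.map (QuotientGroup.mk' (center ↥L₀))).Normal :=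
          (inferInstance : N.Normal).map _ (QuotientGroup.mk'_surjective _)
        have hN1 : N ≠ ⊥ := fun h => by
          have hb : L₁ = ⊥ := (subgroupOf_eq_bot.1 h).eq_bot_of_le hle
          have hc := Nat.card_congr e₁.toEquiv
          rw [hb, card_bot, Cfsg.SLPair.card_sl] at hc
          have h16 := Nat.pow_le_pow_left h4 2
          nlinarith [Nat.sub_add_cancel (show 1 ≤ Fintype.card F' ^ 2 by omega)]
        rcases hi.eq_bot_or_eq_top with h | h
        · refine absurd ?_ hN1
          have hsub : N ≤ center ↥L₀ := fun z hz => (QuotientGroup.eq_one_iff _).1 (mem_bot.1 (h ▸ mem_map_of_mem _ hz))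
          rw [← hNp, ← le_bot_iff, commutator_le]
          intro g hg g' _
          rw [mem_bot, commutatorElement_eq_one_iff_mul_comm]
          exact (mem_center_iff.1 (hsub hg) g').symm
        · have hle' : (⊤ : Subgroup ↥L₀) ≤ N := by
            rw [← hperf₀, _root_.commutator_def, commutator_le]
            intro g _ g' _
            obtain ⟨p, hp, hpe⟩ := h.ge (mem_top (QuotientGroup.mk' (center ↥L₀) g))
            obtain ⟨p', hp', hpe'⟩ := h.ge (mem_top (QuotientGroup.mk' (center ↥L₀) g'))
            have hz : p⁻¹ * g ∈ center ↥L₀ := QuotientGroup.eq.1 hpe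
            have hz' : p'⁻¹ * g' ∈ center ↥L₀ := QuotientGroup.eq.1 hpe'
            have e : ⁅g, g'⁆ = ⁅p, p'⁆ := by
              rw [show g = p * (p⁻¹ * g) by group, show g' = p' * (p'⁻¹ * g') by group]
              generalize p⁻¹ * g = z at hz ⊢
              generalize p'⁻¹ * g' = z' at hz' ⊢
              have c1 := mem_center_iff.1 hz
              have c2 := mem_center_iff.1 hz'
              simp only [commutatorElement_def, _root_.mul_inv_rev]
              calc p * z * (p' * z') * (z⁻¹ * p⁻¹) * (z'⁻¹ * p'⁻¹) = p * (z * (p' * z')) * z⁻¹ * p⁻¹ * z'⁻¹ * p'⁻¹ := by group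
                _ = p * p' * (z' * p⁻¹) * z'⁻¹ * p'⁻¹ := by rw [← c1 (p' * z')]; group
                _ = p * p' * p⁻¹ * p'⁻¹ := by rw [← c2 p⁻¹]; group
            rw [e, ← hNp]
            exact commutator_mem_commutator hp hp'
          exact fun z hz => mem_subgroupOf.1 (hle' (mem_top ⟨z, hz⟩))
      · exfalso
        have h3 : Fintype.card F' = 3 := by
          have := Fintype.one_lt_card (α := F')
          obtain ⟨r, hr⟩ := hF'
          omega
        have hc24 : Nat.card L₁ = 24 := (Nat.card_congr e₁.toEquiv).trans (sl_solvable_three h3)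
        haveI : Group.IsSolvable L₁ :=
          Cfsg.Lib.Presentations.isSolvable_of_card_lt_sixty 24 L₁ hc24 (by norm_num)
        haveI : Group.IsSolvable (L₁.subgroupOf K) :=
          Group.isSolvable_of_isSolvable_injective (f := K.subtype.subgroupComap L₁)
            (fun p q h => Subtype.ext (Subtype.ext (congrArg Subtype.val h :)))
        have hle : L₁.subgroupOf K ≤ center K := hsolvN _ inferInstance inferInstance
        have hdiv : Nat.card L₁ ∣ Nat.card (L₁.subgroupOf K) * 2 ^ a := by
          exact hKa ▸ card_dvd_inf_mul_index K L₁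
        have h3d : 3 ∣ Nat.card (L₁.subgroupOf K) :=
          (Nat.Coprime.pow_right a (show Nat.Coprime 3 2 by norm_num)).dvd_of_dvd_mul_right
            ((show 3 ∣ Nat.card L₁ by rw [hc24]; norm_num).trans hdiv)
        have := h3d.trans (card_dvd_of_le hle)
        rw [(quaternion_quot T n eT hOK).1] at this
        norm_num at this

end

end Cfsg.Lib.GWD
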